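import Cfsg.Agent.H97.OmegaRank
import Cfsg.Agent.LieClassical.OmegaReindex
set_option linter.all false

/-!
# The discriminants of the explicit even dimensional forms (helper97)
-/

set_option autoImplicit false
set_option linter.unusedSectionVars false

namespace Cfsg.Agent.H97.OmegaDisc

open QuadraticMap Matrix Module Cfsg.Agent.LieClassical.OmegaReindex
open Cfsg.Agent.ClassicalGeometry

variable {F : Type*} [Field F]

theorem two_ne_zero_of_odd [Fintype F] (hF : Odd (Fintype.card F)) : (2 : F) ≠ 0 := by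
  intro h2
  have h1 : ((Fintype.card F : ℕ) : F) = 0 := FiniteField.cast_card_eq_zero F
  obtain ⟨k, hk⟩ := hF
  rw [hk] at h1
  push_cast at h1
  rw [h2, zero_mul, zero_add] at h1
  exact one_ne_zero h1

/-- Gram matrix of `Σ x_i y_i` -/
theorem det_plus (m : ℕ) : (LinearMap.BilinForm.toMatrix (Pi.basisFun F (Fin m ⊕ Fin m))
    (QuadraticMap.polarBilin (quadPlus m F))).det = (-1) ^ m := by
  have h1 : LinearMap.BilinForm.toMatrix (Pi.basisFun F (Fin m ⊕ Fin m)) (QuadraticMap.polarBilin (quadPlus m F)) =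
      Matrix.fromBlocks 0 1 1 0 := by
    ext i j
    rw [LinearMap.BilinForm.toMatrix_apply, QuadraticMap.polarBilin_apply_apply, polar_quadPlus]
    rcases i with i | i <;> rcases j with j | j <;>
      simp [Pi.single_apply, Matrix.one_apply, eq_comm]
  rw [h1, Discriminant.det_fromBlocks_zero_left]
  simp

/-- Gram matrix of the minus type form -/
theorem det_minus (m : ℕ) (a b : F) : (LinearMap.BilinForm.toMatrix (Pi.basisFun F ((Fin m ⊕ Fin m) ⊕ Fin 2))
    (QuadraticMap.polarBilin (quadMinus m F a b))).det = (-1) ^ m * (4 * b - a ^ 2) := by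
  have h1 : LinearMap.BilinForm.toMatrix (Pi.basisFun F ((Fin m ⊕ Fin m) ⊕ Fin 2))
      (QuadraticMap.polarBilin (quadMinus m F a b)) =
      Matrix.fromBlocks (Matrix.fromBlocks 0 1 1 0) 0 0 !![2, a; a, 2 * b] := by
    ext i j
    rw [LinearMap.BilinForm.toMatrix_apply, QuadraticMap.polarBilin_apply_apply, polar_quadMinus]
    rcases i with (i | i) | i
    · rcases j with (j | j) | j <;> simp [Pi.single_apply, Matrix.one_apply, eq_comm]
    · rcases j with (j | j) | j <;> simp [Pi.single_apply, Matrix.one_apply, eq_comm]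
    · rcases j with (j | j) | j
      · simp [Pi.single_apply]
      · simp [Pi.single_apply]
      · fin_cases i <;> fin_cases j <;> simp [Pi.single_apply]
  rw [h1, Matrix.det_fromBlocks_zero₂₁, Discriminant.det_fromBlocks_zero_left, Matrix.det_fin_two_of]
  simp
  ring

theorem isSquare_neg_one_pow_iff [Fintype F] {q : ℕ} (hF : Fintype.card F = q) (hodd : Odd q) (n : ℕ) :
    IsSquare ((-1 : F) ^ n) ↔ q ^ n % 4 = 1 := by
  have h2 : (2 : F) ≠ 0 := two_ne_zero_of_odd (hF ▸ hodd)
  have h4 : q % 4 = 1 ∨ q % 4 = 3 := by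
    obtain ⟨k, hk⟩ := hodd
    omega
  rcases h4 with h4 | h4
  · have h5 : IsSquare (-1 : F) := by
      rw [FiniteField.isSquare_neg_one_iff, hF, h4]
      norm_num
    have h6 : q ^ n % 4 = 1 := by
      rw [Nat.pow_mod, h4, one_pow]
      norm_num
    exact ⟨fun _ => h6, fun _ => h5.pow n⟩
  · have h5 : ¬ IsSquare (-1 : F) := by
      rw [FiniteField.isSquare_neg_one_iff, hF, h4]
      norm_num
    rcases Nat.even_or_odd n with hn | hn
    · have h6 : q ^ n % 4 = 1 := by
        obtain ⟨k, rfl⟩ := hn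
        rw [← two_mul, pow_mul, Nat.pow_mod, Nat.pow_mod q 2, h4]
        norm_num
      rw [hn.neg_one_pow]
      exact ⟨fun _ => h6, fun _ => IsSquare.one⟩
    · have h6 : q ^ n % 4 = 3 := by
        obtain ⟨k, rfl⟩ := hn
        rw [pow_succ, pow_mul, Nat.mul_mod, Nat.pow_mod, Nat.pow_mod q 2, h4]
        norm_num
      rw [hn.neg_one_pow, h6]
      exact ⟨fun h => absurd h h5, fun h => by norm_num at h⟩

/-- the discriminant of an anisotropic binary form is not a square -/
theorem not_isSquare_disc (h2 : (2 : F) ≠ 0) {a b : F}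
    (hab : ∀ z₁ z₂ : F, z₁ ^ 2 + a * z₁ * z₂ + b * z₂ ^ 2 = 0 → z₁ = 0 ∧ z₂ = 0) : ¬ IsSquare (a ^ 2 - 4 * b) := by
  rintro ⟨c, hc⟩
  have h := hab (c - a) 2 (by linear_combination -hc)
  exact h2 h.2

end Cfsg.Agent.H97.OmegaDisc
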