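import Cfsg.Agent.H875.SpRatEnd
import Cfsg.Agent.H930.TTrans
import Cfsg.Agent.H931.SpProper
import Cfsg.Agent.H909.Sp4List
import Cfsg.Agent.H955.Sp
import Cfsg.Agent.FastGrp
import Cfsg.Agent.Prune
set_option linter.all false
prune_inst 0x7ffffdfffbff79dfdfff7e7ffedcdffdffbb3fffe6fffdcbbfe021ef2bdf7b88cf65fbaf8ffa33fe1fe3e21410f87b53fdffdfffe26bfc7ffffdfdf41ffbffcffdf7b50851978c340f360ff703f0778e7f3fffffffffffffffffffffffffffbeffbfffffffff
open scoped Cfsg.Agent.FastGrp

-- part: H97/SpSubTwo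
section
/-!
Odd characteristic versions of `H875.odd_step` and `H875.full_of_goal` for rational structures of
dimension at least three (in particular for `Sp₄`).
-/

set_option autoImplicit false
open Cfsg
open scoped Matrix
open Cfsg.Agent.ClassicalGeometry.SympBasic Cfsg.Agent.ClassicalGeometry.SympSiegel
open Cfsg.Agent.H875

namespace Cfsg.Agent.H97.SpSubTwo

variable {F : Type*} [Field F] {m : ℕ}

local notation "V" => (Fin m ⊕ Fin m → F)
local notation "G" => Matrix.symplecticGroup (Fin m) F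
local notation "f" => sympForm m F

variable {ζ : F} {F₀ : Subfield F} {V₀ : Submodule F₀ (Fin m ⊕ Fin m → F)}

variable [Finite F]

omit [Finite F] in
/-- Odd characteristic, centre in a rational hyperbolic plane. -/
theorem odd_two (h2 : (2 : F) ≠ 0) (h : RatStr F₀ ζ V₀) (hdim : 2 < Module.finrank F₀ V₀)
    {M : Subgroup G} (hM : ∀ g : G, (∀ v ∈ V₀, g • v ∈ V₀) → g ∈ M) {x y : V} (hx : x ∈ V₀)
    (hy : y ∈ V₀) (hxy : ζ * f x y = 1) {α β : F} (hαβ : β / α ∉ F₀)
    (hu : ∀ c ∈ F₀, TT ζ (α • x + β • y) c ∈ M) : Goal ζ F₀ V₀ M := by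
  classical
  set v₂ : V := α • x + β • y with hv₂
  have hα : α ≠ 0 := ne_zero_of_div_right hαβ
  have hyx : ζ * f y x = -1 := by rw [sympForm_swap, mul_neg, hxy]
  -- a rational vector orthogonal to the plane
  let S : Submodule F₀ V₀ := Submodule.span F₀ (({⟨x, hx⟩, ⟨y, hy⟩} : Finset V₀) : Set V₀)
  have hS : Module.finrank F₀ S ≤ 2 := (finrank_span_le _).trans Finset.card_le_two
  have hxS : (⟨x, hx⟩ : V₀) ∈ S := Submodule.subset_span (by simp)
  have hyS : (⟨y, hy⟩ : V₀) ∈ S := Submodule.subset_span (by simp)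
  obtain ⟨z₀, hz₀S⟩ : ∃ z₀ : V₀, z₀ ∉ S := by
    by_contra hc
    push Not at hc
    have h1 : S = ⊤ := eq_top_iff.2 fun v _ => hc v
    rw [h1, finrank_top] at hS
    omega
  obtain ⟨s, hs, hs0, hsx, hsy⟩ : ∃ s ∈ V₀, s ≠ 0 ∧ f s x = 0 ∧ f s y = 0 := by
    refine ⟨(z₀ : V) - (ζ * f z₀ y) • x + (ζ * f z₀ x) • y, ?_, ?_, ?_, ?_⟩
    · apply V₀.add_mem
      · apply V₀.sub_mem z₀.2
        exact V₀.smul_mem (⟨_, h.val z₀ z₀.2 y hy⟩ : F₀) hx
      · exact V₀.smul_mem (⟨_, h.val z₀ z₀.2 x hx⟩ : F₀) hy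
    · intro h0
      apply hz₀S
      have e : z₀ = (⟨_, h.val z₀ z₀.2 y hy⟩ : F₀) • (⟨x, hx⟩ : V₀) -
          (⟨_, h.val z₀ z₀.2 x hx⟩ : F₀) • (⟨y, hy⟩ : V₀) := by
        apply Subtype.ext
        change (z₀ : V) = (ζ * f z₀ y) • x - (ζ * f z₀ x) • y
        have h3 : (z₀ : V) - ((ζ * f z₀ y) • x - (ζ * f z₀ x) • y) = 0 := by
          rw [← h0]
          module
        exact sub_eq_zero.1 h3
      rw [e]
      exact S.sub_mem (S.smul_mem _ hxS) (S.smul_mem _ hyS)
    · rw [sympForm_add_left, sympForm_sub_left, sympForm_smul_left, sympForm_smul_left,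
        sympForm_self]
      linear_combination ((f z₀ x :)) * hyx
    · rw [sympForm_add_left, sympForm_sub_left, sympForm_smul_left, sympForm_smul_left,
        sympForm_self]
      linear_combination -((f z₀ y :)) * hxy
  have hsv : f s v₂ = 0 := by
    rw [hv₂, sympForm_add_right, sympForm_smul_right, sympForm_smul_right, hsx, hsy, mul_zero,
      mul_zero, add_zero]
  have hvs : f v₂ s = 0 := form_eq_zero_comm.1 hsv
  -- the key claim
  have claim : ∀ p ∈ V₀, ∀ q ∈ V₀, f s p = 0 → f s q = 0 → ∀ c ∈ F₀,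
      TT ζ (s : V) (2 * c * (ζ * f p v₂) * (ζ * f v₂ q)) ∈ M := by
    intro p hp q hq hsp hsq c hc
    set! a : F := ζ * f p v₂ with ha; rewrite [← ha]
    have h1 : SS ζ (s : V) p 0 ∈ M := hM _ (SS_mem_of_rat h hs hp hsp F₀.zero_mem)
    have h3 : SS ζ (s : V) p 0 • v₂ = v₂ + a • (s : V) := by
      rw [SS_smul hsp, hsv, mul_zero, zero_smul, add_zero]
    have h4 : TT ζ (v₂ + a • (s : V)) c ∈ M := by
      rw [← h3, ← conj_TT]
      exact M.mul_mem (M.mul_mem h1 (hu c hc)) (M.inv_mem h1)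
    have h5 : TT ζ (v₂ + a • (s : V)) c * TT ζ v₂ (-c) =
        SS ζ (s : V) ((-(c * a)) • v₂) (-(c * a ^ 2)) := by
      have h6 : f (s : V) ((-(c * a)) • v₂) = 0 := by
        rw [sympForm_smul_right, hsv, mul_zero]
      apply ext_smul
      intro v
      rw [mul_smul, TT_smul, TT_smul, SS_smul h6]
      simp only [sympForm_add_left, sympForm_add_right, sympForm_smul_left, sympForm_smul_right,
        sympForm_self, hvs, sympForm_swap v₂ v, sympForm_swap (s : V) v]
      module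
    have h7 : SS ζ (s : V) ((-(c * a)) • v₂) (-(c * a ^ 2)) ∈ M := by
      rw [← h5]
      exact M.mul_mem h4 (hu _ (F₀.neg_mem hc))
    have h8 : SS ζ (s : V) q 0 ∈ M := hM _ (SS_mem_of_rat h hs hq hsq F₀.zero_mem)
    have h6 : f (s : V) ((-(c * a)) • v₂) = 0 := by
      rw [sympForm_smul_right, hsv, mul_zero]
    have h9 := M.mul_mem (M.mul_mem h7 h8) (M.inv_mem (M.mul_mem h8 h7))
    have h10 : f (s : V) ((-(c * a)) • v₂ + q) = 0 := by
      rw [sympForm_add_right, h6, hsq, add_zero]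
    have h11 : f (s : V) (q + (-(c * a)) • v₂) = 0 := by rw [add_comm]; exact h10
    rw [SS_mul h6 hsq, SS_mul hsq h6, SS_inv h11, SS_mul h10 (form_neg_eq_zero h11),
      add_comm q, add_neg_cancel, SS_zero] at h9
    convert h9 using 2
    simp only [sympForm_smul_left, sympForm_smul_right, sympForm_neg_right, sympForm_self,
      sympForm_swap q v₂]
    ring
  have e1 : ζ * f y v₂ = -α := by
    rw [hv₂, sympForm_add_right, sympForm_smul_right, sympForm_smul_right, sympForm_self]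
    linear_combination α * hyx
  have e2 : ζ * f v₂ y = α := by
    rw [hv₂, sympForm_add_left, sympForm_smul_left, sympForm_smul_left, sympForm_self]
    linear_combination α * hxy
  have e3 : ζ * f v₂ x = -β := by
    rw [hv₂, sympForm_add_left, sympForm_smul_left, sympForm_smul_left, sympForm_self]
    linear_combination β * hyx
  have c1 := claim y hy y hy hsy hsy 1 F₀.one_mem
  have c2 := claim y hy x hx hsy hsx 1 F₀.one_mem
  rw [e1, e2] at c1
  rw [e1, e3] at c2
  have h2mem : (2 : F) ∈ F₀ := by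
    have : (1 : F) + 1 ∈ F₀ := F₀.add_mem F₀.one_mem F₀.one_mem
    convert this using 1
    norm_num
  by_cases hα2 : 2 * 1 * -α * α ∈ F₀
  · refine ⟨s, hs, hs0, _, ?_, c2⟩
    intro hmem
    apply hαβ
    have h3 : 2 * 1 * -α * -β / (2 * 1 * -α * α) ∈ F₀ := F₀.div_mem hmem hα2
    have h4 : β / α = -(2 * 1 * -α * -β / (2 * 1 * -α * α)) := by
      field_simp
    rw [h4]
    exact F₀.neg_mem h3
  · exact ⟨s, hs, hs0, _, hα2, c1⟩

/-- Odd characteristic. -/
theorem odd_step (h2 : (2 : F) ≠ 0) (h : RatStr F₀ ζ V₀) (hdim : 2 < Module.finrank F₀ V₀)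
    {M : Subgroup G} (hM : ∀ g : G, (∀ v ∈ V₀, g • v ∈ V₀) → g ∈ M) {u : V}
    (hu : ∀ c ∈ F₀, TT ζ u c ∈ M) (hirr : ∀ (a : F), ∀ w ∈ V₀, u ≠ a • w) :
    Goal ζ F₀ V₀ M := by
  classical
  have h2mem : (2 : F) ∈ F₀ := by
    have : (1 : F) + 1 ∈ F₀ := F₀.add_mem F₀.one_mem F₀.one_mem
    convert this using 1
    norm_num
  -- a rational hyperbolic pair with independent pairings
  obtain ⟨x, hx, y, hy, hxy, hind⟩ : ∃ x ∈ V₀, ∃ y ∈ V₀, ζ * f x y = 1 ∧
      (ζ * f u y) / (ζ * f u x) ∉ F₀ := by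
    obtain ⟨x, hx, y, hy, hind⟩ := h.exists_indep hirr
    by_cases hxy : f x y = 0
    · have hx0 : x ≠ 0 := by
        rintro rfl
        rw [sympForm_zero_right, mul_zero, div_zero] at hind
        exact hind F₀.zero_mem
      obtain ⟨z, -, hz⟩ := h.exists_dual (S := ⊥) (z := ⟨x, hx⟩) (by
        rw [Submodule.mem_bot]
        intro h0
        exact hx0 (congrArg Subtype.val h0))
      by_cases hz' : (ζ * f u (z : V)) / (ζ * f u x) ∈ F₀
      · refine ⟨x, hx, z + y, V₀.add_mem z.2 hy, ?_, ?_⟩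
        · rw [sympForm_add_right, hxy, add_zero]
          exact hz
        · intro h3
          apply hind
          have h4 := F₀.sub_mem h3 hz'
          rw [← sub_div, sympForm_add_right] at h4
          convert h4 using 2
          ring
      · exact ⟨x, hx, z, z.2, hz, hz'⟩
    · have hg : ζ * f x y ≠ 0 := mul_ne_zero h.ne hxy
      have hgm : (ζ * f x y)⁻¹ ∈ F₀ := F₀.inv_mem (h.val x hx y hy)
      refine ⟨x, hx, (ζ * f x y)⁻¹ • y, V₀.smul_mem (⟨_, hgm⟩ : F₀) hy, ?_, ?_⟩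
      · rw [sympForm_smul_right]
        have e : ζ * ((ζ * f x y)⁻¹ * f x y) = (ζ * f x y)⁻¹ * (ζ * f x y) := by ring
        rw [e, inv_mul_cancel₀ hg]
      · intro h3
        apply hind
        have h4 := F₀.mul_mem (h.val x hx y hy) h3
        convert h4 using 1
        rw [sympForm_smul_right]
        field_simp
  have hyx : ζ * f y x = -1 := by rw [sympForm_swap, mul_neg, hxy]
  set a : F := ζ * f u x with ha
  set b : F := ζ * f u y with hb
  have hind' : -a / b ∉ F₀ := by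
    intro h3
    apply div_not_mem_symm hind
    have := F₀.neg_mem h3
    rwa [neg_div, neg_neg] at this
  -- the projection to the plane
  set! w : V := b • x + (-a) • y with hw
  set! w' : V := u - w with hw'
  have huw : u = w + w' := by rw [hw']; abel
  have hw'x : f w' x = 0 := by
    have h3 : ζ * f w' x = 0 := by
      rw [hw', hw, sympForm_sub_left, sympForm_add_left, sympForm_smul_left, sympForm_smul_left,
        sympForm_self]
      linear_combination -ha + a * hyx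
    exact (mul_eq_zero.1 h3).resolve_left h.ne
  have hw'y : f w' y = 0 := by
    have h3 : ζ * f w' y = 0 := by
      rw [hw', hw, sympForm_sub_left, sympForm_add_left, sympForm_smul_left, sympForm_smul_left,
        sympForm_self]
      linear_combination -hb - b * hxy
    exact (mul_eq_zero.1 h3).resolve_left h.ne
  have hw'w : f w' w = 0 := by
    rw [hw, sympForm_add_right, sympForm_smul_right, sympForm_smul_right, hw'x, hw'y, mul_zero,
      mul_zero, add_zero]
  have hww' : f w w' = 0 := form_eq_zero_comm.1 hw'w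
  by_cases hw'0 : w' = 0
  · apply odd_two h2 h hdim hM hx hy hxy hind'
    intro c hc
    rw [← hw]
    have : w = u := by rw [huw, hw'0, add_zero]
    rw [this]
    exact hu c hc
  -- the involution
  let T : V →ₗ[F] V := LinearMap.id - (2 : F) • (((ζ • (sympBilin m F).flip y).smulRight x) -
    ((ζ • (sympBilin m F).flip x).smulRight y))
  have hT : ∀ v, T v = v - (2 : F) • ((ζ * f v y) • x - (ζ * f v x) • y) := fun v => rfl
  have hiso : ∀ v v', f (T v) (T v') = f v v' := by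
    intro v v'
    have h3 : ζ * f (T v) (T v') = ζ * f v v' := by
      rw [hT, hT]
      simp only [sympForm_sub_left, sympForm_sub_right, sympForm_smul_left, sympForm_smul_right,
        sympForm_self, sympForm_swap x v', sympForm_swap y v', sympForm_swap y x]
      linear_combination (4 * ((ζ * f v x) * (ζ * f v' y) - (ζ * f v y) * (ζ * f v' x))) * hxy
    exact mul_left_cancel₀ h.ne h3
  have hTM : ofIso T hiso ∈ M := by
    apply hM
    intro v hv
    rw [ofIso_smul, hT]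
    apply V₀.sub_mem hv
    apply V₀.smul_mem (⟨2, h2mem⟩ : F₀)
    apply V₀.sub_mem
    · exact V₀.smul_mem (⟨_, h.val v hv y hy⟩ : F₀) hx
    · exact V₀.smul_mem (⟨_, h.val v hv x hx⟩ : F₀) hy
  have hTu : ofIso T hiso • u = w' - w := by
    rw [ofIso_smul, hT, ← ha, ← hb]
    have e : (b • x - a • y : V) = w := by rw [hw]; module
    rw [e, huw]
    module
  -- the Siegel elements `SS w (c w')`
  have hSS : ∀ c ∈ F₀, SS ζ w (c • w') 0 ∈ M := by
    intro c hc
    obtain ⟨d, hd, rfl⟩ : ∃ d ∈ F₀, c = 2 * d :=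
      ⟨c / 2, F₀.div_mem hc h2mem, by field_simp⟩
    have h3 := hu _ (F₀.neg_mem hd)
    have h4 : TT ζ (w' - w) d ∈ M := by
      rw [← hTu, ← conj_TT]
      exact M.mul_mem (M.mul_mem hTM (hu _ hd)) (M.inv_mem hTM)
    have h5 : TT ζ u (-d) * TT ζ (w' - w) d = SS ζ w ((2 * d) • w') 0 := by
      have h6 : f w ((2 * d) • w') = 0 := by rw [sympForm_smul_right, hww', mul_zero]
      apply ext_smul
      intro v
      rw [mul_smul, TT_smul, TT_smul, SS_smul h6, huw]
      simp only [sympForm_add_left, sympForm_add_right, sympForm_sub_left, sympForm_sub_right,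
        sympForm_smul_left, sympForm_self, hww', hw'w,
        sympForm_swap w v, sympForm_swap w' v]
      module
    rw [← h5]
    exact M.mul_mem h3 h4
  -- a rational vector orthogonal to the plane and not to `w'`
  obtain ⟨z₀, hz₀, hwz₀⟩ : ∃ z ∈ V₀, f w' z ≠ 0 := by
    by_contra hc
    push Not at hc
    exact hw'0 (h.nd w' hc)
  obtain ⟨z, hz, hzx, hzy, hwz⟩ : ∃ z ∈ V₀, f z x = 0 ∧ f z y = 0 ∧ f w' z ≠ 0 := by
    refine ⟨z₀ - (ζ * f z₀ y) • x + (ζ * f z₀ x) • y, ?_, ?_, ?_, ?_⟩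
    · apply V₀.add_mem
      · apply V₀.sub_mem hz₀
        exact V₀.smul_mem (⟨_, h.val z₀ hz₀ y hy⟩ : F₀) hx
      · exact V₀.smul_mem (⟨_, h.val z₀ hz₀ x hx⟩ : F₀) hy
    · rw [sympForm_add_left, sympForm_sub_left, sympForm_smul_left, sympForm_smul_left,
        sympForm_self]
      linear_combination (f z₀ x) * hyx
    · rw [sympForm_add_left, sympForm_sub_left, sympForm_smul_left, sympForm_smul_left,
        sympForm_self]
      linear_combination -(f z₀ y) * hxy
    · rw [sympForm_add_right, sympForm_sub_right, sympForm_smul_right, sympForm_smul_right, hw'x,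
        hw'y, mul_zero, mul_zero, sub_zero, add_zero]
      exact hwz₀
  set! d : F := ζ * f w' z with hd
  have hd0 : d ≠ 0 := mul_ne_zero h.ne hwz
  have hzw : f z w = 0 := by
    rw [hw, sympForm_add_right, sympForm_smul_right, sympForm_smul_right, hzx, hzy, mul_zero,
      mul_zero, add_zero]
  have hwz' : f w z = 0 := form_eq_zero_comm.1 hzw
  have hzw' : ζ * f z w' = -d := by rw [sympForm_swap, hd]; ring
  -- `SS w (± c d z) (c d^2)`
  have key : ∀ c ∈ F₀, TT ζ w (-(2 * c * d ^ 2)) ∈ M := by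
    intro c hc
    have hTz : TT ζ z c ∈ M := hM _ (TT_mem_of_rat h hz hc)
    have e1 : TT ζ z c • w = w := by
      rw [TT_smul, hwz', mul_zero, mul_zero, zero_smul, add_zero]
    have e2 : TT ζ z c • w' = w' + (c * d) • z := by rw [TT_smul]
    have h1 := hSS 1 F₀.one_mem
    rw [one_smul] at h1
    have h1' : SS ζ w (w' + (c * d) • z) 0 ∈ M := by
      have h3 := M.mul_mem (M.mul_mem hTz h1) (M.inv_mem hTz)
      rw [conj_SS _ hww', e1, e2] at h3
      exact h3
    have hw1 : f w (w' + (c * d) • z) = 0 := by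
      rw [sympForm_add_right, hww', sympForm_smul_right, hwz', mul_zero, add_zero]
    have hw2 : f w (-(w' + (c * d) • z)) = 0 := by rw [sympForm_neg_right, hw1, neg_zero]
    have hw3 : f w (-w') = 0 := by rw [sympForm_neg_right, hww', neg_zero]
    have h3 := M.mul_mem h1' (M.inv_mem h1)
    have h4 := M.mul_mem (M.inv_mem h1') h1
    rw [SS_inv hww', SS_mul hw1 hw3] at h3
    rw [SS_inv hw1, SS_mul hw2 hww'] at h4
    have h5 := M.mul_mem h3 h4
    rw [SS_mul (by rw [sympForm_add_right, hw1, hw3, add_zero])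
      (by rw [sympForm_add_right, hw2, hww', add_zero])] at h5
    have e3 : w' + (c * d) • z + -w' + (-(w' + (c * d) • z) + w') = 0 := by module
    rw [e3, SS_zero] at h5
    convert h5 using 2
    simp only [sympForm_add_left, sympForm_add_right, sympForm_neg_left, sympForm_neg_right,
      sympForm_smul_left, sympForm_smul_right, sympForm_self, sympForm_swap w' z]
    linear_combination (-(2 * c * d)) * hzw'
  have hind2 : (d * -a) / (d * b) ∉ F₀ := by
    rw [mul_div_mul_left _ _ hd0]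
    exact hind'
  apply odd_two h2 h hdim hM hx hy hxy hind2
  intro c hc
  have e : (d * b) • x + (d * -a) • y = d • w := by rw [hw]; module
  rw [e, TT_smul_vec]
  have h3 := key (-(c / 2)) (F₀.neg_mem (F₀.div_mem hc h2mem))
  convert h3 using 2
  field_simp

omit [Finite F] in
/-- `SS x (c y)` from transvections. -/
theorem SS_of_TT {M : Subgroup G} {x y : V} (hxy : f x y = 0) {c : F}
    (hx : TT ζ x c ∈ M) (hy : TT ζ y c ∈ M) (hxy' : TT ζ (x + y) c ∈ M) :
    SS ζ x (c • y) 0 ∈ M := by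
  have h1 := M.mul_mem (M.mul_mem hx hy) (M.inv_mem hxy')
  have e : TT ζ x c * TT ζ y c * (TT ζ (x + y) c)⁻¹ = SS ζ x (c • y) 0 := by
    rw [TT_inv]
    apply ext_smul
    intro v
    rw [mul_smul, mul_smul, TT_smul, TT_smul, TT_smul,
      SS_smul (by rw [sympForm_smul_right, hxy, mul_zero])]
    simp only [sympForm_add_left, sympForm_add_right, sympForm_smul_left, sympForm_self, hxy,
      form_eq_zero_comm.1 hxy, sympForm_swap x v, sympForm_swap y v]
    module
  rwa [e] at h1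

/-- The ring of scalars of the short Siegel elements (odd characteristic). -/
def BRing (h2 : (2 : F) ≠ 0) (h : RatStr F₀ ζ V₀) (hdim : 2 < Module.finrank F₀ V₀)
    (M : Subgroup (Matrix.symplecticGroup (Fin m) F))
    (hM : ∀ g : Matrix.symplecticGroup (Fin m) F, (∀ v ∈ V₀, g • v ∈ V₀) → g ∈ M) :
    Subalgebra F₀ F where
  carrier := {b | ∀ x ∈ V₀, ∀ y ∈ V₀, f x y = 0 → SS ζ x (b • y) 0 ∈ M}
  mul_mem' {b b'} hb hb' := by
    classical
    have h2mem : (2 : F) ∈ F₀ := by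
      have : (1 : F) + 1 ∈ F₀ := F₀.add_mem F₀.one_mem F₀.one_mem
      convert this using 1
      norm_num
    -- transvections with parameter `2 b b'`
    have hTT : ∀ x ∈ V₀, TT ζ x (2 * (b * b')) ∈ M := by
      intro x hx
      have h1 := finrank_span_le (K := F₀) ({⟨x, hx⟩} : Finset V₀)
      rw [Finset.card_singleton] at h1
      obtain ⟨z, hzS, hzo⟩ := h.exists_orth (S := Submodule.span F₀
          ((({⟨x, hx⟩} : Finset V₀)) : Set V₀)) (by omega)
      obtain ⟨p, hpo, hzp⟩ := h.exists_dual hzS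
      have hxS : (⟨x, hx⟩ : V₀) ∈ Submodule.span F₀
          ((({⟨x, hx⟩} : Finset V₀)) : Set V₀) := Submodule.subset_span (by simp)
      have hxz : f x (z : V) = 0 := hzo _ hxS
      have hxp : f x (p : V) = 0 := hpo _ hxS
      have hpz : ζ * f (p : V) (z : V) = -1 := by rw [sympForm_swap, mul_neg, hzp]
      have h3 := hb x hx z z.2 hxz
      have h4 := hb' x hx p p.2 hxp
      have hxbz : f x (b • (z : V)) = 0 := by rw [sympForm_smul_right, hxz, mul_zero]
      have hxbp : f x (b' • (p : V)) = 0 := by rw [sympForm_smul_right, hxp, mul_zero]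
      have hsum : f x (b • (z : V) + b' • (p : V)) = 0 := by
        rw [sympForm_add_right, hxbz, hxbp, add_zero]
      have h5 := M.mul_mem (M.inv_mem (M.mul_mem h3 h4)) (M.mul_mem h4 h3)
      rw [SS_mul hxbz hxbp, SS_mul hxbp hxbz, SS_inv hsum, add_comm (b' • (p : V)),
        SS_mul (by rw [sympForm_neg_right, hsum, neg_zero]) hsum, neg_add_cancel, SS_zero] at h5
      convert h5 using 2
      simp only [sympForm_add_left, sympForm_add_right, sympForm_neg_left,
        sympForm_smul_left, sympForm_smul_right, sympForm_self, sympForm_swap (p : V) (z : V)]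
      linear_combination (-(2 * b * b')) * hzp
    intro x hx y hy hxy
    have hhalf : (2 : F)⁻¹ ∈ F₀ := F₀.inv_mem h2mem
    have hy' : (2 : F)⁻¹ • y ∈ V₀ := V₀.smul_mem (⟨_, hhalf⟩ : F₀) hy
    have hxy' : f x ((2 : F)⁻¹ • y) = 0 := by rw [sympForm_smul_right, hxy, mul_zero]
    have h1 := SS_of_TT hxy' (hTT x hx) (hTT _ hy') (hTT _ (V₀.add_mem hx hy'))
    have e : (2 * (b * b')) • ((2 : F)⁻¹ • y) = (b * b') • y := by
      rw [smul_smul]
      congr 1
      field_simp
    rwa [e] at h1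
  add_mem' {b b'} hb hb' := by
    intro x hx y hy hxy
    have h1 := M.mul_mem (hb x hx y hy hxy) (hb' x hx y hy hxy)
    rw [SS_mul (by rw [sympForm_smul_right, hxy, mul_zero])
      (by rw [sympForm_smul_right, hxy, mul_zero]), ← add_smul] at h1
    convert h1 using 2
    rw [sympForm_smul_left, sympForm_smul_right, sympForm_self]
    ring
  algebraMap_mem' c := by
    intro x hx y hy hxy
    apply hM
    have h1 : (algebraMap F₀ F c) • y ∈ V₀ := V₀.smul_mem c hy
    exact SS_mem_of_rat h hx h1 (by rw [sympForm_smul_right, hxy, mul_zero]) F₀.zero_mem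

omit [Finite F] in
/-- **An irrational transvection with rational centre generates everything with the rational
isometries** (odd characteristic). -/
theorem full_of_goal [Fintype F] (h2 : (2 : F) ≠ 0) (h : RatStr F₀ ζ V₀)
    (hdim : 2 < Module.finrank F₀ V₀)
    {r : ℕ} (hr : r.Prime) (hcard : Fintype.card F = Nat.card F₀ ^ r) {M : Subgroup G}
    (hM : ∀ g : G, (∀ v ∈ V₀, g • v ∈ V₀) → g ∈ M) (hg : Goal ζ F₀ V₀ M) :
    ∀ v : V, Full M v := by
  classical
  obtain ⟨s, hs, hs0, c₁, hc₁, hsc⟩ := hg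
  -- the transvections with parameter `c₁` at all rational vectors
  have hall : ∀ x ∈ V₀, TT ζ x c₁ ∈ M := by
    intro x hx
    by_cases hx0 : x = 0
    · subst hx0
      have : TT ζ (0 : V) c₁ = 1 := by
        apply ext_smul
        intro v
        rw [TT_smul, smul_zero, add_zero, one_smul]
      rw [this]
      exact M.one_mem
    · obtain ⟨g, hg, hgs⟩ := rat_transitive h hM hs hx hs0 hx0
      rw [← hgs, ← conj_TT]
      exact M.mul_mem (M.mul_mem hg hsc) (M.inv_mem hg)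
  -- the ring is everything
  have hc₁B : c₁ ∈ BRing h2 h hdim M hM := by
    intro x hx y hy hxy
    exact SS_of_TT hxy (hall x hx) (hall y hy) (hall _ (V₀.add_mem hx hy))
  have hprime : (Module.finrank F₀ F).Prime := by
    have h1 : Fintype.card F = Fintype.card F₀ ^ Module.finrank F₀ F :=
      Module.card_eq_pow_finrank
    rw [hcard, Nat.card_eq_fintype_card] at h1
    have h3 : 1 < Fintype.card F₀ := Fintype.one_lt_card
    have h4 := Nat.pow_right_injective h3 h1
    rw [← h4]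
    exact hr
  have htop : BRing h2 h hdim M hM = ⊤ := by
    have hso := Subalgebra.isSimpleOrder_of_finrank_prime F₀ F hprime
    rcases hso.eq_bot_or_eq_top (BRing h2 h hdim M hM) with h1 | h1
    · exfalso
      rw [h1, Algebra.mem_bot] at hc₁B
      obtain ⟨c, hc⟩ := hc₁B
      apply hc₁
      rw [← hc]
      exact c.2
    · exact h1
  have hB : ∀ b : F, ∀ x ∈ V₀, ∀ y ∈ V₀, f x y = 0 → SS ζ x (b • y) 0 ∈ M := by
    intro b
    have : b ∈ BRing h2 h hdim M hM := by rw [htop]; trivial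
    exact this
  have hTT : ∀ x ∈ V₀, ∀ c : F, TT ζ x c ∈ M := by
    intro x hx c
    have h3 := hB (-(c / 2)) x hx x hx (sympForm_self _)
    have e : SS ζ x ((-(c / 2)) • x) 0 = TT ζ x c := by
      apply ext_smul
      intro v
      rw [SS_smul (by rw [sympForm_smul_right, sympForm_self, mul_zero]), TT_smul]
      simp only [sympForm_smul_left, sympForm_swap x v]
      have e2 : c = 2 * (c / 2) := by field_simp
      set d : F := c / 2 with hd
      rw [e2]
      module
    rwa [e] at h3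
  have hfull : ∀ x ∈ V₀, Full M x := by
    intro x hx c
    have h3 := hTT x hx (c / ζ)
    rw [TT, mul_div_cancel₀ _ h.ne] at h3
    exact h3
  -- the whole space
  have hs1 : ∃ s : F, s ≠ 0 ∧ s ≠ -1 := by
    refine ⟨c₁, ?_, ?_⟩
    · rintro rfl
      exact hc₁ F₀.zero_mem
    · rintro rfl
      exact hc₁ (F₀.neg_mem F₀.one_mem)
  apply full_of_connected hs1 (V₀ : Set V) hfull
  · intro v hv
    by_contra hc
    push Not at hc
    exact hv (h.nd v hc)
  · intro W hW hW'
    -- a rational vector outside `W`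
    obtain ⟨x₁, hx₁, hx₁W⟩ : ∃ x ∈ V₀, x ∉ W := by
      obtain ⟨v, hv⟩ : ∃ v, v ∉ W := by
        by_contra hc
        push Not at hc
        exact hW' (eq_top_iff.2 fun v _ => hc v)
      obtain ⟨φ, hφv, hφW⟩ := Submodule.exists_le_ker_of_notMem hv
      have hnd : LinearMap.BilinForm.Nondegenerate (sympBilin m F) :=
        sympBilin_nondegenerate
      let a := (LinearMap.BilinForm.toDual (sympBilin m F) hnd).symm φ
      have ha : ∀ x, f a x = φ x := fun x =>
        LinearMap.BilinForm.apply_toDual_symm_apply (B := sympBilin m F) (hB := hnd) φ x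
      have ha0 : a ≠ 0 := by
        intro h0
        apply hφv
        rw [← ha, h0, sympForm_zero_left]
      by_contra hc
      push Not at hc
      apply ha0
      apply h.nd
      intro x hx
      rw [ha]
      exact hφW (hc x hx)
    obtain ⟨w, hw, hw0⟩ := Submodule.exists_mem_ne_zero_of_ne_bot hW
    obtain ⟨x₂, hx₂, hwx₂⟩ : ∃ x ∈ V₀, f w x ≠ 0 := by
      by_contra hc
      push Not at hc
      exact hw0 (h.nd w hc)
    by_cases h1 : x₂ ∈ W
    · by_cases h3 : ∃ w' ∈ W, f w' x₁ ≠ 0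
      · exact ⟨x₁, hx₁, hx₁W, h3⟩
      · push Not at h3
        refine ⟨x₁ + x₂, V₀.add_mem hx₁ hx₂, ?_, w, hw, ?_⟩
        · intro h4
          apply hx₁W
          have := W.sub_mem h4 h1
          rwa [add_sub_cancel_right] at this
        · rw [sympForm_add_right, h3 w hw, zero_add]
          exact hwx₂
    · exact ⟨x₂, hx₂, h1, w, hw, hwx₂⟩

end Cfsg.Agent.H97.SpSubTwo
end

-- part: H97/Sp4Sub
section
/-!
# Subfield subgroups of `Sp₄(q)`, `q` odd (task 603, for S5786)

* `card_T6_dvd` : the order of a subfield subgroup.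
* `T6_trace` : the squares of the traces lie in the subfield.
* `part6` : subfield subgroups are maximal.
-/

set_option autoImplicit false
set_option linter.unusedVariables false
set_option linter.unusedSectionVars false
open Cfsg
open scoped Matrix
open Cfsg.Agent.ClassicalGeometry.SympBasic Cfsg.Agent.ClassicalGeometry.SympSiegel
open Cfsg.Agent.H875
open Cfsg.Agent.H930 (rv rv_add rv_smul rv_zero rv_injective)

namespace Cfsg.Agent.H97.Sp4Sub

universe u

section Rat

variable {F : Type u} [Field F] {m : ℕ}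

local notation "V" => (Fin m ⊕ Fin m → F)
local notation "G" => Matrix.symplecticGroup (Fin m) F
local notation "f" => sympForm m F

variable {ζ : F} {F₀ : Subfield F} {P : Matrix.GeneralLinearGroup (Fin m ⊕ Fin m) F}

/-- the parametrisation of the rational vectors -/
def rvL (F₀ : Subfield F) (P : Matrix.GeneralLinearGroup (Fin m ⊕ Fin m) F) :
    (Fin m ⊕ Fin m → F₀) →ₗ[F₀] (Fin m ⊕ Fin m → F) where
  toFun := rv F₀ P
  map_add' := rv_add P
  map_smul' := rv_smul P

/-- the rational vectors -/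
def V0 (F₀ : Subfield F) (P : Matrix.GeneralLinearGroup (Fin m ⊕ Fin m) F) :
    Submodule F₀ (Fin m ⊕ Fin m → F) := LinearMap.range (rvL F₀ P)

theorem rv_mem_V0 (u : Fin m ⊕ Fin m → F₀) : rv F₀ P u ∈ V0 F₀ P := ⟨u, rfl⟩

theorem ratStr (hζ : ζ ≠ 0) (hP : Cfsg.Geo.IsFormRationalStructure f F₀ ζ P) :
    RatStr F₀ ζ (V0 F₀ P) := by
  refine ⟨hζ, ?_, ?_⟩
  · rintro _ ⟨u, rfl⟩ _ ⟨v, rfl⟩
    exact hP _ _ (fun i => (u i).2) (fun i => (v i).2)
  · intro v hv
    apply eq_zero_of_forall_sympForm_right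
    intro w
    -- `w` is a combination of the columns of `P`
    have h1 : w = ∑ j, ((((P⁻¹ : Matrix.GeneralLinearGroup (Fin m ⊕ Fin m) F) :
        Matrix (Fin m ⊕ Fin m) (Fin m ⊕ Fin m) F).mulVec w) j) •
        rv F₀ P (Pi.single j 1) := by
      have h2 : ∀ j, rv F₀ P (Pi.single j 1) =
          (P : Matrix (Fin m ⊕ Fin m) (Fin m ⊕ Fin m) F).mulVec (Pi.single j 1) := by
        intro j
        rw [rv, Cfsg.Agent.H873.Sub.cv_single]
      simp only [h2]
      have h3 : ∀ x : Fin m ⊕ Fin m → F,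
          (P : Matrix (Fin m ⊕ Fin m) (Fin m ⊕ Fin m) F).mulVec x =
          ∑ j, x j • (P : Matrix (Fin m ⊕ Fin m) (Fin m ⊕ Fin m) F).mulVec (Pi.single j 1) := by
        intro x
        have h4 : x = ∑ j, x j • (Pi.single j (1 : F) : Fin m ⊕ Fin m → F) := by
          funext i
          simp only [Finset.sum_apply, Pi.single_apply, _root_.Pi.smul_apply, _root_.smul_eq_mul, _root_.mul_ite, _root_.mul_one, _root_.MulZeroClass.mul_zero, _root_.Finset.sum_ite_eq, _root_.Finset.mem_univ, ↓ _root_.reduceIte]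
        conv_lhs => rw [h4]
        rw [← Matrix.toLin'_apply, map_sum]
        simp only [map_smul, Matrix.toLin'_apply]
      rw [← h3, Matrix.mulVec_mulVec, ← Units.val_mul, mul_inv_cancel, Units.val_one,
        Matrix.one_mulVec]
    rw [h1, form_sum_right]
    apply Finset.sum_eq_zero
    intro j _
    rw [sympForm_smul_right, hv (rv F₀ P (Pi.single j 1)) ⟨_, rfl⟩, mul_zero]

theorem finrank_V0 : Module.finrank F₀ (V0 F₀ P) = m + m := by
  have h1 : Module.finrank F₀ (V0 F₀ P) = Module.finrank F₀ (Fin m ⊕ Fin m → F₀) :=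
    LinearMap.finrank_range_of_inj (rv_injective P)
  rw [h1, Module.finrank_fintype_fun_eq_card, Fintype.card_sum, Fintype.card_fin]

theorem subfield_ne_top [Fintype F] {r : ℕ} (hr : r.Prime)
    (hcard : Fintype.card F = Nat.card F₀ ^ r) : F₀ ≠ ⊤ := by
  rintro rfl
  have h1 : Nat.card (⊤ : Subfield F) = Fintype.card F := by
    rw [← Nat.card_eq_fintype_card]
    exact Nat.card_congr (Subfield.topEquiv : (⊤ : Subfield F) ≃+* F).toEquiv
  rw [h1] at hcard
  have h2 : 1 < Fintype.card F := Fintype.one_lt_card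
  have h3 : Fintype.card F ^ 1 < Fintype.card F ^ r := Nat.pow_lt_pow_right h2 hr.one_lt
  rw [pow_one] at h3
  omega

/-- Subfield subgroups are maximal, odd characteristic, dimension at least four. -/
theorem maximal_of_odd [Fintype F] (hm : 2 ≤ m) (h2 : (2 : F) ≠ 0) (h3 : 3 ≤ Fintype.card F)
    {r : ℕ} (hr : r.Prime)
    (hcard : Fintype.card F = Nat.card F₀ ^ r) (hζ : ζ ≠ 0)
    (hP : Cfsg.Geo.IsFormRationalStructure f F₀ ζ P) :
    Cfsg.Geo.IsMaximalIn (Cfsg.spGL m F) (Cfsg.Geo.subfieldSubgroup F₀ P ⊓ Cfsg.spGL m F) := by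
  classical
  have hF₀ : F₀ ≠ ⊤ := subfield_ne_top hr hcard
  have hrat := ratStr hζ hP
  have hdim : Module.finrank F₀ (V0 F₀ P) = m + m := finrank_V0
  apply isMaximalIn_of
  · by_contra hcon
    push Not at hcon
    apply Cfsg.Agent.H931.spGL_not_le_subfieldSubgroup (by omega : 1 ≤ m) (by
      rcases Nat.lt_or_ge 2 m with h | h
      · exact Or.inl (by omega)
      · exact Or.inr (Or.inl ⟨by omega, h3⟩)) hF₀ P
    rw [← toGL_range]
    rintro _ ⟨g, rfl⟩
    exact hcon g
  · intro M hKM ⟨g, hgM, hg⟩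
    have hM : ∀ g : Matrix.symplecticGroup (Fin m) F,
        (∀ v ∈ V0 F₀ P, g • v ∈ V0 F₀ P) → g ∈ M := by
      intro g hg
      apply hKM
      apply Cfsg.Agent.H930.mem_subfieldSubgroup_of_rat
      intro u
      obtain ⟨w, hw⟩ := hg _ ⟨u, rfl⟩
      exact ⟨w, hw.symm⟩
    -- an irrational image
    obtain ⟨u, hu⟩ : ∃ u : Fin m ⊕ Fin m → F₀, ∀ (l : F) (w : Fin m ⊕ Fin m → F₀),
        g • rv F₀ P u ≠ l • rv F₀ P w := by
      by_contra hcon
      push Not at hcon
      apply hg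
      apply Cfsg.Agent.H930.mem_subfieldSubgroup_of_lines
      · rw [Fintype.card_sum, Fintype.card_fin]
        omega
      · exact hcon
    have hirr : ∀ (a : F), ∀ w ∈ V0 F₀ P, g • rv F₀ P u ≠ a • w := by
      rintro a _ ⟨w, rfl⟩
      exact hu a w
    have hTu : ∀ c ∈ F₀, TT ζ (g • rv F₀ P u) c ∈ M := by
      intro c hc
      rw [← conj_TT]
      exact M.mul_mem (M.mul_mem hgM (hM _ (TT_mem_of_rat hrat ⟨u, rfl⟩ hc))) (M.inv_mem hgM)
    have hgoal : Goal ζ F₀ (V0 F₀ P) M :=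
      SpSubTwo.odd_step h2 hrat (by omega) hM hTu hirr
    exact eq_top_of_full (SpSubTwo.full_of_goal h2 hrat (by omega) hr hcard hM hgoal)

/-! ### The scalar of an element -/

/-- an element of the subfield group maps rational vectors to multiples of rational vectors. -/
theorem exists_scalar {g : Matrix.GeneralLinearGroup (Fin m ⊕ Fin m) F}
    (hg : g ∈ Cfsg.Geo.subfieldSubgroup F₀ P) :
    ∃ d : F, d ≠ 0 ∧ (∀ i j, d * ((P⁻¹ * g * P : Matrix.GeneralLinearGroup (Fin m ⊕ Fin m) F) :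
      Matrix (Fin m ⊕ Fin m) (Fin m ⊕ Fin m) F) i j ∈ F₀) ∧
      ∀ v ∈ V0 F₀ P, d • ((g : Matrix (Fin m ⊕ Fin m) (Fin m ⊕ Fin m) F) *ᵥ v) ∈ V0 F₀ P := by
  obtain ⟨d, hd, h⟩ := Cfsg.Agent.H930.mem_subfieldSubgroup_iff.1 hg
  refine ⟨d, hd, h, ?_⟩
  rintro _ ⟨u, rfl⟩
  refine ⟨fun i => ∑ j, (⟨_, h i j⟩ : F₀) * u j, ?_⟩
  change rv F₀ P _ = d • ((g : Matrix (Fin m ⊕ Fin m) (Fin m ⊕ Fin m) F) *ᵥ (rv F₀ P u))
  have e : (g : Matrix (Fin m ⊕ Fin m) (Fin m ⊕ Fin m) F) *ᵥ (rv F₀ P u) =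
      (P : Matrix (Fin m ⊕ Fin m) (Fin m ⊕ Fin m) F) *ᵥ
      (((P⁻¹ * g * P : Matrix.GeneralLinearGroup (Fin m ⊕ Fin m) F) :
      Matrix (Fin m ⊕ Fin m) (Fin m ⊕ Fin m) F) *ᵥ Cfsg.Agent.H873.Sub.cv F₀ u) := by
    rw [rv, Matrix.mulVec_mulVec, Matrix.mulVec_mulVec, ← Units.val_mul, ← Units.val_mul]
    have e1 : P * (P⁻¹ * g * P) = g * P := by group
    rw [e1]
  rw [e, ← Matrix.mulVec_smul, rv]
  congr 1
  funext i
  rw [Pi.smul_apply, Matrix.mulVec, dotProduct, smul_eq_mul, Finset.mul_sum,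
    Cfsg.Agent.H873.Sub.cv_apply]
  push_cast
  apply Finset.sum_congr rfl
  intro j _
  rw [Cfsg.Agent.H873.Sub.cv_apply]
  ring

/-- the square of the scalar of an isometry is rational. -/
theorem sq_mem (hm : 1 ≤ m) (hrat : RatStr F₀ ζ (V0 F₀ P))
    {g : Matrix.GeneralLinearGroup (Fin m ⊕ Fin m) F}
    (hg : g ∈ Cfsg.spGL m F) {d : F} (h : ∀ v ∈ V0 F₀ P,
      d • ((g : Matrix (Fin m ⊕ Fin m) (Fin m ⊕ Fin m) F) *ᵥ v) ∈ V0 F₀ P) : d ^ 2 ∈ F₀ := by
  -- two rational vectors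
  obtain ⟨x, hx, hx0⟩ : ∃ x ∈ V0 F₀ P, x ≠ 0 := by
    by_contra hcon
    push Not at hcon
    have h1 : V0 F₀ P = ⊥ := (Submodule.eq_bot_iff _).2 hcon
    have h2 : Module.finrank F₀ (V0 F₀ P) = m + m := finrank_V0
    rw [h1, finrank_bot] at h2
    omega
  obtain ⟨y, hy, hxy⟩ : ∃ y ∈ V0 F₀ P, f x y ≠ 0 := by
    by_contra hc
    push Not at hc
    exact hx0 (hrat.nd x hc)
  have h1 := hrat.val _ (h x hx) _ (h y hy)
  rw [sympForm_smul_left, sympForm_smul_right] at h1
  have h2 : f ((g : Matrix (Fin m ⊕ Fin m) (Fin m ⊕ Fin m) F) *ᵥ x)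
      ((g : Matrix (Fin m ⊕ Fin m) (Fin m ⊕ Fin m) F) *ᵥ y) = f x y := hg x y
  rw [h2] at h1
  have h3 := F₀.div_mem h1 (hrat.val x hx y hy)
  convert h3 using 1
  have := hrat.ne
  field_simp

/-- the squares of the traces are rational. -/
theorem trace_sq_mem (hm : 1 ≤ m) (hrat : RatStr F₀ ζ (V0 F₀ P))
    {g : Matrix.GeneralLinearGroup (Fin m ⊕ Fin m) F}
    (hg : g ∈ Cfsg.Geo.subfieldSubgroup F₀ P) (hg' : g ∈ Cfsg.spGL m F) :
    (g : Matrix (Fin m ⊕ Fin m) (Fin m ⊕ Fin m) F).trace ^ 2 ∈ F₀ := by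
  obtain ⟨d, hd, h1, h2⟩ := exists_scalar hg
  have h3 := sq_mem hm hrat hg' h2
  have h4 : d * (g : Matrix (Fin m ⊕ Fin m) (Fin m ⊕ Fin m) F).trace ∈ F₀ := by
    have e : (g : Matrix (Fin m ⊕ Fin m) (Fin m ⊕ Fin m) F).trace =
        (((P⁻¹ * g * P : Matrix.GeneralLinearGroup (Fin m ⊕ Fin m) F) :
      Matrix (Fin m ⊕ Fin m) (Fin m ⊕ Fin m) F)).trace := by
      rw [Units.val_mul, Units.val_mul, Matrix.trace_mul_cycle, ← Units.val_mul, ← Units.val_mul]
      congr 2
      group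
    rw [e, Matrix.trace, Finset.mul_sum]
    exact F₀.sum_mem fun i _ => h1 i i
  have h5 : (d * (g : Matrix (Fin m ⊕ Fin m) (Fin m ⊕ Fin m) F).trace) ^ 2 / d ^ 2 ∈ F₀ :=
    F₀.div_mem (F₀.pow_mem h4 2) h3
  convert h5 using 1
  field_simp

/-- the subgroup of the isometries preserving the rational vectors -/
def RS (F₀ : Subfield F) (P : Matrix.GeneralLinearGroup (Fin m ⊕ Fin m) F) [Finite F] :
    Subgroup (Matrix.GeneralLinearGroup (Fin m ⊕ Fin m) F) where
  carrier := {g | g ∈ Cfsg.spGL m F ∧ ∀ v, (g : Matrix (Fin m ⊕ Fin m) (Fin m ⊕ Fin m) F) *ᵥ v ∈ V0 F₀ P ↔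
    v ∈ V0 F₀ P}
  one_mem' := ⟨(Cfsg.spGL m F).one_mem, fun v => by rw [Units.val_one, Matrix.one_mulVec]⟩
  mul_mem' {a b} ha hb := ⟨(Cfsg.spGL m F).mul_mem ha.1 hb.1, fun v => by
    rw [Units.val_mul, ← Matrix.mulVec_mulVec, ha.2, hb.2]⟩
  inv_mem' {a} ha := ⟨(Cfsg.spGL m F).inv_mem ha.1, fun v => by
    rw [← ha.2, Matrix.mulVec_mulVec, ← Units.val_mul, mul_inv_cancel, Units.val_one,
      Matrix.one_mulVec]⟩

theorem mem_RS_of [Finite F] {g : Matrix.GeneralLinearGroup (Fin m ⊕ Fin m) F}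
    (hg : g ∈ Cfsg.spGL m F)
    (h : ∀ v ∈ V0 F₀ P, (g : Matrix (Fin m ⊕ Fin m) (Fin m ⊕ Fin m) F) *ᵥ v ∈ V0 F₀ P) :
    g ∈ RS F₀ P := by
  refine ⟨hg, fun v => ⟨fun hv => ?_, h v⟩⟩
  -- injective map of the finite set of rational vectors
  have hinj : (Function.Injective (fun w : V0 F₀ P =>
      (⟨(g : Matrix (Fin m ⊕ Fin m) (Fin m ⊕ Fin m) F) *ᵥ (w : V), h w w.2⟩ : V0 F₀ P)) :) := by
    intro a b hab
    apply Subtype.ext
    have h1 := congrArg (fun x : V0 F₀ P => ((g⁻¹ : Matrix.GeneralLinearGroup (Fin m ⊕ Fin m) F) :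
      Matrix (Fin m ⊕ Fin m) (Fin m ⊕ Fin m) F) *ᵥ (x : V)) hab
    simpa only [Matrix.mulVec_mulVec, _root_.SetLike.coe_eq_coe, _root_.Matrix.coe_units_inv, _root_.Matrix.inv_mul_of_invertible, _root_.Matrix.one_mulVec] using h1
  obtain ⟨w, hw⟩ := (Finite.injective_iff_surjective.1 hinj) ⟨_, hv⟩
  have h1 := (congrArg (fun x : V0 F₀ P => ((g⁻¹ : Matrix.GeneralLinearGroup (Fin m ⊕ Fin m) F) :
      Matrix (Fin m ⊕ Fin m) (Fin m ⊕ Fin m) F) *ᵥ (x : V)) hw :)
  have h2 : (w : V) = v := by simpa only [Matrix.mulVec_mulVec, _root_.Matrix.coe_units_inv, _root_.Matrix.inv_mul_of_invertible, _root_.Matrix.one_mulVec] using h1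
  rw [← h2]
  exact w.2

/-- the linear map of the rational vectors given by an element of `RS` -/
def rsLin [Finite F] (g : RS F₀ P) : V0 F₀ P →ₗ[F₀] V0 F₀ P where
  toFun := fun w : V0 F₀ P => (⟨(g.1 : Matrix (Fin m ⊕ Fin m) (Fin m ⊕ Fin m) F) *ᵥ (w : V),
        (g.2.2 (w : V)).2 w.2⟩ : V0 F₀ P)
  map_add' a b := by
    apply Subtype.ext
    exact Matrix.mulVec_add (g.1 : Matrix (Fin m ⊕ Fin m) (Fin m ⊕ Fin m) F) (a : V) (b : V)
  map_smul' c a := by
    apply Subtype.ext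
    exact Matrix.mulVec_smul (g.1 : Matrix (Fin m ⊕ Fin m) (Fin m ⊕ Fin m) F) (c : F) (a : V)

theorem rsLin_bijective [Finite F] (g : RS F₀ P) : Function.Bijective (rsLin g) := by
  rw [← Finite.injective_iff_bijective]
  intro a b hab
  apply Subtype.ext
  have h1 := (congrArg (fun x : V0 F₀ P => ((g.1⁻¹ : Matrix.GeneralLinearGroup (Fin m ⊕ Fin m) F) :
      Matrix (Fin m ⊕ Fin m) (Fin m ⊕ Fin m) F) *ᵥ (x : V)) hab :)
  change ((g.1⁻¹ : Matrix.GeneralLinearGroup (Fin m ⊕ Fin m) F) :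
      Matrix (Fin m ⊕ Fin m) (Fin m ⊕ Fin m) F) *ᵥ
      ((g.1 : Matrix (Fin m ⊕ Fin m) (Fin m ⊕ Fin m) F) *ᵥ (a : V)) =
      ((g.1⁻¹ : Matrix.GeneralLinearGroup (Fin m ⊕ Fin m) F) :
      Matrix (Fin m ⊕ Fin m) (Fin m ⊕ Fin m) F) *ᵥ
      ((g.1 : Matrix (Fin m ⊕ Fin m) (Fin m ⊕ Fin m) F) *ᵥ (b : V)) at h1
  rw [Matrix.mulVec_mulVec, Matrix.mulVec_mulVec, ← Units.val_mul, inv_mul_cancel, Units.val_one,
    Matrix.one_mulVec, Matrix.one_mulVec] at h1
  exact h1

/-- the action of `RS` on the rational vectors -/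
noncomputable def toIso [Finite F] (hrat : RatStr F₀ ζ (V0 F₀ P)) :
    RS F₀ P →* H955.IsoB hrat.form where
  toFun g := ⟨LinearEquiv.ofBijective (rsLin g) (rsLin_bijective g), by
    intro u v
    apply Subtype.ext
    rw [RatStr.form_apply, RatStr.form_apply]
    exact congrArg (ζ * ·) ((g.2.1 (u : V) (v : V) :))⟩
  map_one' := by
    apply Subtype.ext
    apply LinearEquiv.ext
    intro w
    apply Subtype.ext
    change ((1 : RS F₀ P).1 : Matrix (Fin m ⊕ Fin m) (Fin m ⊕ Fin m) F) *ᵥ (w : V) = w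
    rw [Subgroup.coe_one, Units.val_one, Matrix.one_mulVec]
  map_mul' g h := by
    apply Subtype.ext
    apply LinearEquiv.ext
    intro w
    apply Subtype.ext
    change ((g * h : RS F₀ P).1 : Matrix (Fin m ⊕ Fin m) (Fin m ⊕ Fin m) F) *ᵥ (w : V) = _
    rw [Subgroup.coe_mul, Units.val_mul, ← Matrix.mulVec_mulVec]
    rfl

theorem toIso_apply [Finite F] (hrat : RatStr F₀ ζ (V0 F₀ P)) (g : RS F₀ P) (w : V0 F₀ P) :
    (((toIso hrat g).1 w : V0 F₀ P) : V) =
      (g.1 : Matrix (Fin m ⊕ Fin m) (Fin m ⊕ Fin m) F) *ᵥ (w : V) := rfl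

theorem toIso_injective [Finite F] (hrat : RatStr F₀ ζ (V0 F₀ P)) :
    Function.Injective (toIso hrat) := by
  rw [injective_iff_map_eq_one]
  intro g hg
  have h1 : ∀ w ∈ V0 F₀ P, (g.1 : Matrix (Fin m ⊕ Fin m) (Fin m ⊕ Fin m) F) *ᵥ w = w := by
    intro w hw
    rw [← toIso_apply hrat g ⟨w, hw⟩, hg]
    rfl
  have h2 : ∀ v : V, (g.1 : Matrix (Fin m ⊕ Fin m) (Fin m ⊕ Fin m) F) *ᵥ v = v := by
    intro v
    have h3 : (g.1 : Matrix (Fin m ⊕ Fin m) (Fin m ⊕ Fin m) F) *ᵥ v - v = 0 := by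
      apply hrat.nd
      intro u hu
      rw [sympForm_sub_left]
      have h4 : f ((g.1 : Matrix (Fin m ⊕ Fin m) (Fin m ⊕ Fin m) F) *ᵥ v)
        ((g.1 : Matrix (Fin m ⊕ Fin m) (Fin m ⊕ Fin m) F) *ᵥ u) = f v u := g.2.1 v u
      rw [h1 u hu] at h4
      rw [h4, sub_self]
    exact sub_eq_zero.1 h3
  apply Subtype.ext
  apply Units.ext
  apply Matrix.ext_of_mulVec_single
  intro i
  rw [h2, Subgroup.coe_one, Units.val_one, Matrix.one_mulVec]

theorem isSp_form (hrat : RatStr F₀ ζ (V0 F₀ P)) : H955.IsSp hrat.form :=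
  ⟨fun v => by rw [hrat.form_eq_zero, sympForm_self], fun x hx => hrat.nondegenerate.1 x hx⟩

theorem card_RS_dvd [Finite F] (hrat : RatStr F₀ ζ (V0 F₀ P)) :
    Nat.card (RS F₀ P) ∣ Nat.card F₀ ^ (m ^ 2) * ∏ i ∈ Finset.range m,
      (Nat.card F₀ ^ (2 * (i + 1)) - 1) := by
  rw [← H955.card_IsoB (isSp_form hrat) (m := m) (by rw [finrank_V0]; ring)]
  exact Subgroup.card_dvd_of_injective _ (toIso_injective hrat)

/-- In a finite field the product of two non-squares is a square. -/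
theorem isSquare_mul_of_not {K : Type*} [Field K] [Finite K] {a b : K} (ha : ¬ IsSquare a)
    (hb : ¬ IsSquare b) : IsSquare (a * b) := by
  classical
  have := Fintype.ofFinite K
  by_cases h0 : a * b = 0
  · rw [h0]
    exact IsSquare.zero
  · rw [← quadraticChar_neg_one_iff_not_isSquare] at ha hb
    rw [← quadraticChar_one_iff_isSquare h0, map_mul, ha, hb]
    norm_num

/-- the index of the rational isometries is at most two. -/
theorem card_dvd [Finite F] (hm : 1 ≤ m) (hrat : RatStr F₀ ζ (V0 F₀ P)) :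
    Nat.card ↥(Cfsg.Geo.subfieldSubgroup F₀ P ⊓ Cfsg.spGL m F) ∣ 2 * Nat.card (RS F₀ P) := by
  classical
  have hle : RS F₀ P ≤ Cfsg.Geo.subfieldSubgroup F₀ P ⊓ Cfsg.spGL m F := by
    intro g hg
    refine ⟨?_, hg.1⟩
    apply Cfsg.Agent.H930.mem_subfieldSubgroup_of_rat
    intro u
    obtain ⟨w, hw⟩ := (hg.2 _).2 (rv_mem_V0 (P := P) u)
    exact ⟨w, hw.symm⟩
  set H := Cfsg.Geo.subfieldSubgroup F₀ P ⊓ Cfsg.spGL m F with hH
  -- two elements outside
  have key : ∀ a ∈ H, ∀ b ∈ H, a ∉ RS F₀ P → b ∉ RS F₀ P → b * a ∈ RS F₀ P := by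
    intro a ha b hb haR hbR
    obtain ⟨d, hd, -, h1⟩ := exists_scalar ha.1
    obtain ⟨e, he, -, h2⟩ := exists_scalar hb.1
    have hd2 := sq_mem hm hrat ha.2 h1
    have he2 := sq_mem hm hrat hb.2 h2
    have hdF : d ∉ F₀ := by
      intro hdF
      apply haR
      apply mem_RS_of ha.2
      intro v hv
      have h3 := (V0 F₀ P).smul_mem (⟨_, F₀.inv_mem hdF⟩ : F₀) (h1 v hv)
      change d⁻¹ • (d • _) ∈ V0 F₀ P at h3
      rwa [smul_smul, inv_mul_cancel₀ hd, one_smul] at h3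
    have heF : e ∉ F₀ := by
      intro heF
      apply hbR
      apply mem_RS_of hb.2
      intro v hv
      have h3 := (V0 F₀ P).smul_mem (⟨_, F₀.inv_mem heF⟩ : F₀) (h2 v hv)
      change e⁻¹ • (e • _) ∈ V0 F₀ P at h3
      rwa [smul_smul, inv_mul_cancel₀ he, one_smul] at h3
    -- the product of the scalars is rational
    have hde : e * d ∈ F₀ := by
      have hsq : ∀ c : F, ∀ t : F₀, c ^ 2 = (t : F) * (t : F) → c ∈ F₀ := by
        intro c t h3
        have h4 : (c - t) * (c + t) = 0 := by linear_combination h3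
        rcases mul_eq_zero.1 h4 with h5 | h5
        · rw [sub_eq_zero.1 h5]
          exact t.2
        · rw [eq_neg_of_add_eq_zero_left h5]
          exact F₀.neg_mem t.2
      have s1 : ¬ IsSquare (⟨e ^ 2, he2⟩ : F₀) := by
        rintro ⟨t, ht⟩
        exact heF (hsq e t (congrArg Subtype.val ht))
      have s2 : ¬ IsSquare (⟨d ^ 2, hd2⟩ : F₀) := by
        rintro ⟨t, ht⟩
        exact hdF (hsq d t (congrArg Subtype.val ht))
      obtain ⟨t, ht⟩ := isSquare_mul_of_not s1 s2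
      apply hsq _ t
      rw [mul_pow]
      exact congrArg Subtype.val ht
    apply mem_RS_of ((Cfsg.spGL m F).mul_mem hb.2 ha.2)
    intro v hv
    have h3 := h2 _ (h1 v hv)
    rw [Matrix.mulVec_smul, smul_smul, Matrix.mulVec_mulVec, ← Units.val_mul] at h3
    have h4 := (V0 F₀ P).smul_mem (⟨_, F₀.inv_mem hde⟩ : F₀) h3
    change (e * d)⁻¹ • ((e * d) • _) ∈ V0 F₀ P at h4
    rwa [smul_smul, inv_mul_cancel₀ (mul_ne_zero he hd), one_smul] at h4
  by_cases hall : H ≤ RS F₀ P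
  · rw [le_antisymm hall hle]
    exact dvd_mul_left _ _
  · obtain ⟨a, ha, haR⟩ := SetLike.not_le_iff_exists.1 hall
    have hidx : ((RS F₀ P).subgroupOf H).index = 2 := by
      rw [Subgroup.index_eq_two_iff]
      refine ⟨⟨a, ha⟩, ?_⟩
      rintro ⟨b, hb⟩
      rw [Subgroup.mem_subgroupOf, Subgroup.mem_subgroupOf]
      change Xor (b * a ∈ RS F₀ P) (b ∈ RS F₀ P)
      by_cases hbR : b ∈ RS F₀ P
      · refine Or.inr ⟨hbR, fun h => haR ?_⟩
        have h1 := (RS F₀ P).mul_mem ((RS F₀ P).inv_mem hbR) h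
        rwa [inv_mul_cancel_left] at h1
      · exact Or.inl ⟨key a ha b hb haR hbR, hbR⟩
    rw [← Subgroup.card_mul_index ((RS F₀ P).subgroupOf H), hidx, mul_comm,
      Nat.card_congr (Subgroup.subgroupOfEquivOfLe hle).toEquiv]

end Rat

/-! ### The three results for `Sp₄` -/

section Four

open Cfsg.Geo Cfsg.Agent.H909.Sp4List

variable {F : Type u} [Field F] [Fintype F]

/-- **Order of a subfield subgroup of `Sp₄(q)`.** -/
theorem card_T6_dvd (h2 : (2 : F) ≠ 0) {F₀ : Subfield F} {P : Matrix.GeneralLinearGroup I4 F}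
    {ζ : F} (hζ : ζ ≠ 0) (hP : IsFormRationalStructure (sympForm 2 F) F₀ ζ P) :
    Nat.card ↥(subfieldSubgroup F₀ P ⊓ spGL 2 F) ∣
      2 * (Nat.card F₀ ^ 4 * (Nat.card F₀ ^ 2 - 1) * (Nat.card F₀ ^ 4 - 1)) := by
  have hrat := ratStr hζ hP
  refine (card_dvd (by norm_num) hrat).trans (mul_dvd_mul_left 2 ?_)
  have h1 := card_RS_dvd (P := P) hrat
  rw [Finset.prod_range_succ, Finset.prod_range_succ, Finset.prod_range_zero, one_mul,
    ← mul_assoc] at h1
  exact h1

/-- **Squares of traces in a subfield subgroup of `Sp₄(q)`.** -/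
theorem T6_trace (h2 : (2 : F) ≠ 0) {F₀ : Subfield F} {P : Matrix.GeneralLinearGroup I4 F}
    {ζ : F} (hζ : ζ ≠ 0) (hP : IsFormRationalStructure (sympForm 2 F) F₀ ζ P)
    {g : Matrix.GeneralLinearGroup I4 F} (hg : g ∈ subfieldSubgroup F₀ P ⊓ spGL 2 F) :
    (g : Matrix I4 I4 F).trace ^ 2 ∈ F₀ :=
  trace_sq_mem (by norm_num) (ratStr hζ hP) hg.1 hg.2

/-- **Subfield subgroups of `Sp₄(q)`, `q` odd, are maximal.** -/
theorem part6 (hodd : Odd (Fintype.card F)) (h88 : Res88 F) (F₀ : Subfield F) (r : ℕ)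
    (P : Matrix.GeneralLinearGroup I4 F) (ζ : F) (hr : r.Prime)
    (hc : Fintype.card F = Nat.card F₀ ^ r) (hζ : ζ ≠ 0)
    (hP : IsFormRationalStructure (sympForm 2 F) F₀ ζ P) :
    IsMaximalIn (spGL 2 F) (subfieldSubgroup F₀ P ⊓ spGL 2 F) := by
  have h1 : 1 < Fintype.card F := Fintype.one_lt_card
  have h3 : 3 ≤ Fintype.card F := by
    obtain ⟨k, hk⟩ := hodd
    omega
  have h2 : (2 : F) ≠ 0 := by
    intro h2
    have hchar : CharP F 2 := CharTwo.of_one_ne_zero_of_two_eq_zero one_ne_zero h2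
    obtain ⟨n, -, hn⟩ := FiniteField.card F 2
    rw [hn] at hodd
    exact (Nat.not_odd_iff_even.2 (Nat.even_pow.2 ⟨even_two, n.ne_zero⟩)) hodd
  exact maximal_of_odd le_rfl h2 h3 hr hc hζ hP

end Four

end Cfsg.Agent.H97.Sp4Sub
end
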