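import Cfsg.Prelude.Def_EvenType
import Cfsg.Prelude.Def_CaseTheorems
import Cfsg.Agent.H97.DiagTwo
import Cfsg.Agent.ClassicalGeometry.OmegaIndex
import Cfsg.Agent.ClassicalGeometry.Discriminant
set_option linter.all false

/-!
# The 2-rank of `Ω(Q)`, `Q` a non-degenerate quadratic form over a finite field of odd order (helper97)

`Q` on `ι → F`, `N = |ι| ≥ 2`.

* `rank_of_same` : if `Q` has an orthogonal basis whose members have their `Q`-values in one square class then the
  2-rank of `Ω(Q)` is `N - 1`;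
* `rank_of_not_same` : if `Q` has no such basis the 2-rank is `N - 2`;
* `exists_same_odd`, `exists_same_even`, `isSquare_det_of_same`: such a basis exists iff `N` is odd or the
  discriminant is a square.
-/

set_option autoImplicit false
set_option linter.unusedSectionVars false

namespace Cfsg.Agent.H97.OmegaRank

open QuadraticMap Matrix Module Cfsg.Agent.ClassicalGeometry.Reflection
open Cfsg.Agent.ClassicalGeometry.SpinorSign Cfsg.Agent.ClassicalGeometry.OmegaIndex

variable {ι : Type} [Fintype ι] [DecidableEq ι] {F : Type*} [Field F]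

/-! ### signs -/

/-- the sign of a unit of `ℤ` in a field -/
def sgn (F : Type*) [Field F] (u : ℤˣ) : F := ((u : ℤ) : F)

theorem sgn_mul (u v : ℤˣ) : sgn F (u * v) = sgn F u * sgn F v := by
  simp [sgn]

theorem sgn_one : sgn F 1 = 1 := by
  simp [sgn]

theorem sgn_neg_one : sgn F (-1) = -1 := by
  simp [sgn]

theorem sgn_prod (s : ι → ℤˣ) : sgn F (∏ i, s i) = ∏ i, sgn F (s i) := by
  simp [sgn]

theorem sgn_sq (u : ℤˣ) : sgn F u * sgn F u = 1 := by
  rw [← sgn_mul, Int.units_mul_self, sgn_one]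

theorem one_ne_neg_one (h2 : (2 : F) ≠ 0) : (1 : F) ≠ -1 := by
  intro h
  apply h2
  have : (1 : F) + 1 = 0 := by
    nth_rewrite 1 [h]
    ring
  rw [← this]
  ring

theorem sgn_injective (h2 : (2 : F) ≠ 0) : Function.Injective (sgn F) := by
  intro u v h
  have h3 := one_ne_neg_one h2
  rcases Int.units_eq_one_or u with rfl | rfl <;> rcases Int.units_eq_one_or v with rfl | rfl
  · rfl
  · rw [sgn_one, sgn_neg_one] at h
    exact absurd h h3
  · rw [sgn_one, sgn_neg_one] at h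
    exact absurd h.symm h3
  · rfl

/-- the diagonal matrix of a sign vector -/
def diagGL (F : Type*) [Field F] (s : ι → ℤˣ) : GL ι F where
  val := Matrix.diagonal fun i => sgn F (s i)
  inv := Matrix.diagonal fun i => sgn F (s i)
  val_inv := by
    rw [Matrix.diagonal_mul_diagonal]
    simp only [sgn_sq, Matrix.diagonal_one]
  inv_val := by
    rw [Matrix.diagonal_mul_diagonal]
    simp only [sgn_sq, Matrix.diagonal_one]

theorem diagGL_mul (s t : ι → ℤˣ) : diagGL F (s * t) = diagGL F s * diagGL F t := by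
  apply Units.ext
  change Matrix.diagonal _ = Matrix.diagonal _ * Matrix.diagonal _
  rw [Matrix.diagonal_mul_diagonal]
  simp only [Pi.mul_apply, sgn_mul]

/-- the diagonal matrices of sign vectors -/
def diagHom (ι : Type) [Fintype ι] [DecidableEq ι] (F : Type*) [Field F] : (ι → ℤˣ) →* GL ι F :=
  MonoidHom.mk' (diagGL F) diagGL_mul

theorem diagHom_apply (s : ι → ℤˣ) : ((diagHom ι F s : GL ι F) : Matrix ι ι F) = Matrix.diagonal fun i => sgn F (s i) := rfl

theorem diagHom_mulVec (s : ι → ℤˣ) (x : ι → F) :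
    ((diagHom ι F s : GL ι F) : Matrix ι ι F) *ᵥ x = fun i => sgn F (s i) * x i := by
  funext i
  rw [diagHom_apply, Matrix.mulVec_diagonal]

/-! ### diagonalised forms -/

/-- `P` diagonalises `Q`, with diagonal `d` -/
structure Dg (Q : QuadraticForm F (ι → F)) (P : GL ι F) (d : ι → F) : Prop where
  ne : ∀ i, d i ≠ 0
  eq : ∀ x, Q ((P : Matrix ι ι F) *ᵥ x) = ∑ i, d i * (x i * x i)

variable {Q : QuadraticForm F (ι → F)} {P : GL ι F} {d : ι → F}

theorem inv_mulVec (P : GL ι F) (x : ι → F) : (P : Matrix ι ι F) *ᵥ (((P⁻¹ : GL ι F) : Matrix ι ι F) *ᵥ x) = x := by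
  rw [Matrix.mulVec_mulVec, ← Units.val_mul, mul_inv_cancel, Units.val_one, Matrix.one_mulVec]

theorem inv_mulVec' (P : GL ι F) (x : ι → F) : ((P⁻¹ : GL ι F) : Matrix ι ι F) *ᵥ ((P : Matrix ι ι F) *ᵥ x) = x := by
  rw [Matrix.mulVec_mulVec, ← Units.val_mul, inv_mul_cancel, Units.val_one, Matrix.one_mulVec]

theorem Dg.mem (h : Dg Q P d) (s : ι → ℤˣ) :
    ((MulAut.conj P).toMonoidHom.comp (diagHom ι F)) s ∈ Cfsg.isometryGroup F ⇑Q := by
  rw [mem_isometryGroup_iff]
  intro x
  change Q (((P * diagHom ι F s * P⁻¹ : GL ι F) : Matrix ι ι F) *ᵥ x) = Q x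
  rw [Units.val_mul, Units.val_mul, ← Matrix.mulVec_mulVec, ← Matrix.mulVec_mulVec, h.eq, diagHom_mulVec]
  conv_rhs => rw [← inv_mulVec P x, h.eq]
  refine Finset.sum_congr rfl fun i _ => ?_
  rw [mul_mul_mul_comm (sgn F (s i)), sgn_sq, one_mul]

/-- the sign changes of a diagonalised form -/
def Dg.dl (h : Dg Q P d) : (ι → ℤˣ) →* Cfsg.isometryGroup F ⇑Q :=
  ((MulAut.conj P).toMonoidHom.comp (diagHom ι F)).codRestrict (Cfsg.isometryGroup F ⇑Q) h.mem

theorem Dg.coe_dl (h : Dg Q P d) (s : ι → ℤˣ) : ((h.dl s : Cfsg.isometryGroup F ⇑Q) : GL ι F) = P * diagHom ι F s * P⁻¹ := rfl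

theorem Dg.dl_mulVec (h : Dg Q P d) (s : ι → ℤˣ) (x : ι → F) :
    (((h.dl s : Cfsg.isometryGroup F ⇑Q) : GL ι F) : Matrix ι ι F) *ᵥ ((P : Matrix ι ι F) *ᵥ x) =
      (P : Matrix ι ι F) *ᵥ (fun i => sgn F (s i) * x i) := by
  rw [h.coe_dl, Units.val_mul, Units.val_mul, ← Matrix.mulVec_mulVec, inv_mulVec', ← Matrix.mulVec_mulVec,
    diagHom_mulVec]

theorem Dg.dl_injective (h : Dg Q P d) (h2 : (2 : F) ≠ 0) : Function.Injective h.dl := by
  intro s t hst
  have h1 : P * diagHom ι F s * P⁻¹ = P * diagHom ι F t * P⁻¹ := by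
    rw [← h.coe_dl, ← h.coe_dl, hst]
  have h3 : diagHom ι F s = diagHom ι F t := by
    have := mul_right_cancel h1
    exact mul_left_cancel this
  have h4 := congrArg (fun g : GL ι F => (g : Matrix ι ι F)) h3
  have h5 := Matrix.diagonal_injective h4
  funext i
  exact sgn_injective h2 (congrFun h5 i)

theorem Dg.det_dl (h : Dg Q P d) (s : ι → ℤˣ) :
    (((h.dl s : Cfsg.isometryGroup F ⇑Q) : GL ι F) : Matrix ι ι F).det = sgn F (∏ i, s i) := by
  rw [h.coe_dl, Units.val_mul, Units.val_mul, Matrix.det_mul, Matrix.det_mul, diagHom_apply, Matrix.det_diagonal,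
    mul_right_comm, ← Matrix.det_mul, ← Units.val_mul, mul_inv_cancel, Units.val_one, Matrix.det_one, one_mul,
    sgn_prod]

theorem Dg.apply_single (h : Dg Q P d) (i : ι) : Q ((P : Matrix ι ι F) *ᵥ Pi.single i 1) = d i := by
  rw [h.eq, Finset.sum_eq_single i]
  · simp
  · intro j _ hj
    simp [hj]
  · simp

theorem Dg.polar (h : Dg Q P d) (i : ι) (x : ι → F) :
    QuadraticMap.polar ⇑Q ((P : Matrix ι ι F) *ᵥ Pi.single i 1) ((P : Matrix ι ι F) *ᵥ x) = 2 * (d i * x i) := by
  have h1 : ∀ j, d j * ((Pi.single i 1 + x : ι → F) j * (Pi.single i 1 + x : ι → F) j) =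
      d j * ((Pi.single i 1 : ι → F) j * (Pi.single i 1 : ι → F) j) + d j * (x j * x j) +
        (if j = i then 2 * (d i * x i) else 0) := by
    intro j
    by_cases hj : j = i
    · subst hj
      simp
      ring
    · simp [hj]
  rw [QuadraticMap.polar, ← Matrix.mulVec_add, h.eq, h.eq, h.eq, Finset.sum_congr rfl (fun j _ => h1 j),
    Finset.sum_add_distrib, Finset.sum_add_distrib, Finset.sum_ite_eq' Finset.univ i, if_pos (Finset.mem_univ i)]
  ring

theorem Dg.dl_single (h : Dg Q P d) (i : ι) (hv : Q ((P : Matrix ι ι F) *ᵥ Pi.single i 1) ≠ 0) :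
    h.dl (Pi.mulSingle i (-1)) = reflIso Q ((P : Matrix ι ι F) *ᵥ Pi.single i 1) hv := by
  apply isometryGroup_ext
  intro x
  obtain ⟨y, rfl⟩ : ∃ y, x = (P : Matrix ι ι F) *ᵥ y := ⟨_, (inv_mulVec P x).symm⟩
  rw [h.dl_mulVec, coe_reflIso, reflectionMatrix_mulVec, h.polar, h.apply_single, ← Matrix.mulVec_smul,
    ← Matrix.mulVec_sub]
  congr 1
  funext j
  rw [Pi.sub_apply, Pi.smul_apply, smul_eq_mul]
  by_cases hj : j = i
  · subst hj
    rw [Pi.mulSingle_eq_same, sgn_neg_one, Pi.single_eq_same]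
    have := h.ne j
    field_simp
    ring
  · rw [Pi.mulSingle_eq_of_ne hj, sgn_one, Pi.single_eq_of_ne hj]
    ring

/-! ### the kernel -/

/-- the product of the signs -/
def prodHom (ι : Type) [Fintype ι] : (ι → ℤˣ) →* ℤˣ where
  toFun s := ∏ i, s i
  map_one' := by simp
  map_mul' s t := by simp [Finset.prod_mul_distrib]

theorem prodHom_single (i : ι) (u : ℤˣ) : prodHom ι (Pi.mulSingle i u) = u := by
  change ∏ j, (Pi.mulSingle i u : ι → ℤˣ) j = u
  rw [Finset.prod_eq_single i]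
  · simp
  · intro j _ hj
    simp [hj]
  · simp

section Finite

variable [Finite F]

/-- determinant and spinor sign on the sign changes -/
noncomputable def Dg.psi (h : Dg Q P d) : (ι → ℤˣ) →* ℤˣ × ℤˣ :=
  (prodHom ι).prod ((spinorSign ⇑Q 1).comp h.dl)

theorem Dg.psi_single (h : Dg Q P d) (h2 : (2 : F) ≠ 0) (i : ι) [Decidable (IsSquare (d i))] :
    h.psi (Pi.mulSingle i (-1)) = (-1, if IsSquare (d i) then -1 else 1) := by
  classical
  have hv : Q ((P : Matrix ι ι F) *ᵥ Pi.single i 1) ≠ 0 := by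
    rw [h.apply_single]
    exact h.ne i
  apply Prod.ext
  · exact prodHom_single i (-1)
  · change spinorSign ⇑Q 1 (h.dl (Pi.mulSingle i (-1))) = _
    rw [h.dl_single i hv, spinorSign_reflIso h2 Q one_ne_zero]
    simp only [one_mul, h.apply_single]

theorem Dg.mem_omega_iff (h : Dg Q P d) (h2 : (2 : F) ≠ 0) (hQ : (QuadraticMap.polarBilin Q).Nondegenerate)
    (hn : 2 ≤ Fintype.card ι) (s : ι → ℤˣ) : h.dl s ∈ Cfsg.Omega F ⇑Q ↔ s ∈ h.psi.ker := by
  rw [mem_Omega_iff h2 Q hQ hn one_ne_zero, h.det_dl, MonoidHom.mem_ker]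
  constructor
  · rintro ⟨h1, h3⟩
    apply Prod.ext
    · exact sgn_injective h2 (h1.trans sgn_one.symm)
    · exact h3
  · intro h1
    constructor
    · have : (∏ i, s i) = 1 := congrArg Prod.fst h1
      rw [this, sgn_one]
    · exact congrArg Prod.snd h1

theorem card_signs : Nat.card (ι → ℤˣ) = 2 ^ Fintype.card ι := by
  rw [Nat.card_eq_fintype_card, Fintype.card_fun, Fintype.card_units_int]

theorem Dg.card_ker_mul (h : Dg Q P d) : Nat.card h.psi.ker * Nat.card h.psi.range = 2 ^ Fintype.card ι := by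
  rw [← card_signs, ← Subgroup.index_ker, Subgroup.card_mul_index]

/-- all values in one square class -/
theorem Dg.card_ker_same (h : Dg Q P d) (h2 : (2 : F) ≠ 0) (hn : 2 ≤ Fintype.card ι)
    (hd : ∀ i j, IsSquare (d i) ↔ IsSquare (d j)) : Nat.card h.psi.ker = 2 ^ (Fintype.card ι - 1) := by
  classical
  have : Nonempty ι := Fintype.card_pos_iff.1 (by omega)
  let i0 : ι := Classical.arbitrary ι
  -- the spinor sign is a function of the determinant
  let χ : ℤˣ →* ℤˣ := if IsSquare (d i0) then MonoidHom.id _ else 1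
  have hχ : χ (-1) = if IsSquare (d i0) then -1 else 1 := by
    by_cases hi : IsSquare (d i0) <;> simp [χ, hi]
  have h3 : (spinorSign ⇑Q 1).comp h.dl = χ.comp (prodHom ι) := by
    apply MonoidHom.functions_ext'
    intro i
    ext u
    rcases Int.units_eq_one_or u with rfl | rfl
    · simp
    · have h4 := congrArg Prod.snd (h.psi_single h2 i)
      change ((spinorSign ⇑Q 1).comp h.dl) (Pi.mulSingle i (-1)) = _ at h4
      change (((spinorSign ⇑Q 1).comp h.dl) (Pi.mulSingle i (-1)) : ℤ) = ((χ (prodHom ι (Pi.mulSingle i (-1)))) : ℤ)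
      rw [h4, prodHom_single, hχ]
      simp only [hd i i0]
  have h5 : h.psi.ker = (prodHom ι).ker := by
    ext s
    rw [MonoidHom.mem_ker, MonoidHom.mem_ker]
    constructor
    · intro h6
      exact congrArg Prod.fst h6
    · intro h6
      apply Prod.ext
      · exact h6
      · change ((spinorSign ⇑Q 1).comp h.dl) s = 1
        rw [h3, MonoidHom.comp_apply, h6, map_one]
  have h6 : Function.Surjective (prodHom ι) := fun u => ⟨Pi.mulSingle i0 u, prodHom_single i0 u⟩
  have h7 : Nat.card (prodHom ι).ker * 2 = 2 ^ Fintype.card ι := by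
    have h8 : Nat.card (prodHom ι).range = 2 := by
      rw [MonoidHom.range_eq_top.2 h6, Subgroup.card_top, Nat.card_eq_fintype_card, Fintype.card_units_int]
    calc Nat.card (prodHom ι).ker * 2 = Nat.card (prodHom ι).ker * Nat.card (prodHom ι).range := by rw [h8]
      _ = 2 ^ Fintype.card ι := by rw [← card_signs, ← Subgroup.index_ker, Subgroup.card_mul_index]
  rw [h5]
  have h9 : 2 ^ Fintype.card ι = 2 ^ (Fintype.card ι - 1) * 2 := by
    rw [← pow_succ]
    congr 1
    omega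
  omega

/-- two square classes -/
theorem Dg.card_ker_diff (h : Dg Q P d) (h2 : (2 : F) ≠ 0) {i j : ι} (hi : IsSquare (d i)) (hj : ¬ IsSquare (d j)) :
    Nat.card h.psi.ker = 2 ^ (Fintype.card ι - 2) := by
  classical
  have hij : i ≠ j := by
    rintro rfl
    exact hj hi
  have hn : 2 ≤ Fintype.card ι := by
    have := Finset.card_le_univ ({i, j} : Finset ι)
    rwa [Finset.card_pair hij] at this
  have hsurj : Function.Surjective h.psi := by
    have h1 := h.psi_single h2 i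
    have h3 := h.psi_single h2 j
    rw [if_pos hi] at h1
    rw [if_neg hj] at h3
    rintro ⟨u, v⟩
    rcases Int.units_eq_one_or u with rfl | rfl <;> rcases Int.units_eq_one_or v with rfl | rfl
    · exact ⟨1, map_one _⟩
    · refine ⟨Pi.mulSingle i (-1) * Pi.mulSingle j (-1), ?_⟩
      rw [map_mul, h1, h3]
      rfl
    · exact ⟨_, h3⟩
    · exact ⟨_, h1⟩
  have h4 := h.card_ker_mul
  have h5 : Nat.card h.psi.range = 4 := by
    rw [MonoidHom.range_eq_top.2 hsurj, Subgroup.card_top, Nat.card_prod, Nat.card_eq_fintype_card,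
      Fintype.card_units_int]
  rw [h5] at h4
  have h9 : 2 ^ Fintype.card ι = 2 ^ (Fintype.card ι - 2) * 4 := by
    have : (4 : ℕ) = 2 ^ 2 := by norm_num
    rw [this, ← pow_add]
    congr 1
    omega
  omega

/-! ### the two bounds -/

theorem Dg.atLeast (h : Dg Q P d) (h2 : (2 : F) ≠ 0) (hQ : (QuadraticMap.polarBilin Q).Nondegenerate)
    (hn : 2 ≤ Fintype.card ι) {k : ℕ} (hk : 2 ^ k ≤ Nat.card h.psi.ker) :
    Cfsg.PRankAtLeast 2 k ↥(Cfsg.Omega F ⇑Q) := by
  have hle : h.psi.ker.map h.dl ≤ Cfsg.Omega F ⇑Q := by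
    rintro _ ⟨s, hs, rfl⟩
    exact (h.mem_omega_iff h2 hQ hn s).2 hs
  refine ⟨(h.psi.ker.map h.dl).subgroupOf (Cfsg.Omega F ⇑Q), ⟨⟨?_⟩⟩, ?_, ?_⟩
  · intro x y
    obtain ⟨s, hs, hs1⟩ := x.2
    obtain ⟨t, ht, ht1⟩ := y.2
    apply Subtype.ext
    apply Subtype.ext
    change (Cfsg.Omega F ⇑Q).subtype x * (Cfsg.Omega F ⇑Q).subtype y =
      (Cfsg.Omega F ⇑Q).subtype y * (Cfsg.Omega F ⇑Q).subtype x
    rw [← hs1, ← ht1, ← map_mul, ← map_mul, mul_comm]
  · intro x hx
    obtain ⟨s, hs, hs1⟩ := hx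
    apply Subtype.ext
    change ((Cfsg.Omega F ⇑Q).subtype x) ^ 2 = 1
    rw [← hs1, ← map_pow]
    have : s ^ 2 = 1 := by
      funext i
      rw [Pi.pow_apply, pow_two, Int.units_mul_self]
      rfl
    rw [this, map_one]
  · rw [Nat.card_congr (Subgroup.subgroupOfEquivOfLe hle).toEquiv, Subgroup.card_map_of_injective (h.dl_injective h2)]
    exact hk

/-- a basis gives a matrix -/
theorem exists_gl (b : Basis ι F (ι → F)) : ∃ P : GL ι F, ∀ x : ι → F, (P : Matrix ι ι F) *ᵥ x = ∑ i, x i • b i := by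
  refine ⟨⟨LinearMap.toMatrix' (b.equivFun.symm : (ι → F) →ₗ[F] (ι → F)),
    LinearMap.toMatrix' (b.equivFun : (ι → F) →ₗ[F] (ι → F)), ?_, ?_⟩, ?_⟩
  · rw [← LinearMap.toMatrix'_comp]
    have : (b.equivFun.symm : (ι → F) →ₗ[F] (ι → F)) ∘ₗ (b.equivFun : (ι → F) →ₗ[F] (ι → F)) = LinearMap.id := by
      ext1 x
      simp
    rw [this, LinearMap.toMatrix'_id]
  · rw [← LinearMap.toMatrix'_comp]
    have : (b.equivFun : (ι → F) →ₗ[F] (ι → F)) ∘ₗ (b.equivFun.symm : (ι → F) →ₗ[F] (ι → F)) = LinearMap.id := by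
      ext1 x
      simp
    rw [this, LinearMap.toMatrix'_id]
  · intro x
    change LinearMap.toMatrix' (b.equivFun.symm : (ι → F) →ₗ[F] (ι → F)) *ᵥ x = _
    rw [LinearMap.toMatrix'_mulVec]
    exact b.equivFun_symm_apply x

theorem exists_dg (hQ : (QuadraticMap.polarBilin Q).Nondegenerate) (b : Basis ι F (ι → F))
    (hb : ∀ i j, i ≠ j → QuadraticMap.polar ⇑Q (b i) (b j) = 0) :
    ∃ P : GL ι F, (∀ x : ι → F, (P : Matrix ι ι F) *ᵥ x = ∑ i, x i • b i) ∧ Dg Q P (fun i => Q (b i)) := by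
  obtain ⟨P, hP⟩ := exists_gl b
  refine ⟨P, hP, ⟨?_, ?_⟩⟩
  · intro i hi
    apply b.ne_zero i
    apply hQ.1
    intro y
    change QuadraticMap.polar ⇑Q (b i) y = 0
    rw [← b.sum_equivFun y]
    change (QuadraticMap.polarBilin Q (b i)) (∑ j, b.equivFun y j • b j) = 0
    rw [map_sum]
    apply Finset.sum_eq_zero
    intro j _
    rw [map_smul, QuadraticMap.polarBilin_apply_apply]
    by_cases hij : i = j
    · subst hij
      rw [QuadraticMap.polar_self, hi, smul_zero, smul_zero]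
    · rw [hb i j hij, smul_zero]
  · intro x
    rw [hP]
    have key : ∀ s : Finset ι, Q (∑ i ∈ s, x i • b i) = ∑ i ∈ s, Q (b i) * (x i * x i) := by
      intro s
      induction s using Finset.induction_on with
      | empty => simp
      | insert i s hi ih =>
        rw [Finset.sum_insert hi, Finset.sum_insert hi, map_add' Q, ih, QuadraticMap.map_smul]
        have h1 : QuadraticMap.polar ⇑Q (x i • b i) (∑ j ∈ s, x j • b j) = 0 := by
          change (QuadraticMap.polarBilin Q (x i • b i)) (∑ j ∈ s, x j • b j) = 0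
          rw [map_sum]
          apply Finset.sum_eq_zero
          intro j hj
          rw [map_smul, map_smul, LinearMap.smul_apply, QuadraticMap.polarBilin_apply_apply, hb i j (by
            rintro rfl
            exact hi hj), smul_zero, smul_zero]
        rw [h1, add_zero, smul_eq_mul]
        ring
    exact key Finset.univ

/-- **The upper bound**: an elementary abelian 2-subgroup of `Ω(Q)` is a group of sign changes of an orthogonal
basis. -/
theorem rankLE (h2 : (2 : F) ≠ 0) (hQ : (QuadraticMap.polarBilin Q).Nondegenerate) (hn : 2 ≤ Fintype.card ι) {k : ℕ}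
    (hk : ∀ (P : GL ι F) (d : ι → F) (h : Dg Q P d), Nat.card h.psi.ker ≤ 2 ^ k) :
    Cfsg.PRankLE 2 k ↥(Cfsg.Omega F ⇑Q) := by
  intro A hA hA2
  -- the linear maps of the elements of `A`
  let T : Cfsg.isometryGroup F ⇑Q → Module.End F (ι → F) := fun g => Matrix.toLin' ((g : GL ι F) : Matrix ι ι F)
  have hTm : ∀ g h : Cfsg.isometryGroup F ⇑Q, T (g * h) = T g * T h := by
    intro g h
    exact Matrix.toLin'_mul _ _
  have hT1 : T 1 = 1 := Matrix.toLin'_one
  have hinv : ∀ (g : Cfsg.isometryGroup F ⇑Q) (x y : ι → F), QuadraticMap.polarBilin Q (T g x) (T g y) =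
      QuadraticMap.polarBilin Q x y := by
    intro g x y
    exact polar_mulVec_of_isometry Q _ ((mem_isometryGroup_iff ⇑Q _).1 g.2) x y
  obtain ⟨b₀, hb₀, hb₀'⟩ := DiagTwo.exists_frame h2 (Fintype.card ι) (ι → F) (by simp) (QuadraticMap.polarBilin Q)
    (fun x y => QuadraticMap.polar_comm _ _ _) hQ.1 {f | ∃ a : Cfsg.Omega F ⇑Q, a ∈ A ∧ f = T a}
    (by
      rintro _ ⟨a, ha, rfl⟩ _ ⟨b, hb, rfl⟩
      rw [← hTm, ← hTm]
      have h1 : (⟨a, ha⟩ : A) * ⟨b, hb⟩ = ⟨b, hb⟩ * ⟨a, ha⟩ := hA.is_comm.comm _ _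
      have h3 : a * b = b * a := congrArg Subtype.val h1
      have h4 : (a : Cfsg.isometryGroup F ⇑Q) * b = b * a := congrArg Subtype.val h3
      rw [h4])
    (by
      rintro _ ⟨a, ha, rfl⟩
      rw [← hTm, ← hT1]
      have h3 : a * a = 1 := by
        rw [← pow_two]
        exact hA2 a ha
      have h4 : (a : Cfsg.isometryGroup F ⇑Q) * a = 1 := congrArg Subtype.val h3
      rw [h4])
    (by
      rintro _ ⟨a, ha, rfl⟩ x y
      exact hinv _ _ _)
  let e : Fin (Fintype.card ι) ≃ ι := (Fintype.equivFin ι).symm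
  let b := b₀.reindex e
  have hb : ∀ i j, i ≠ j → QuadraticMap.polar ⇑Q (b i) (b j) = 0 := by
    intro i j hij
    have := hb₀ (e.symm i) (e.symm j) (fun h => hij (e.symm.injective h))
    simpa [b] using this
  have hb' : ∀ a : Cfsg.Omega F ⇑Q, a ∈ A → ∀ i, T a (b i) = b i ∨ T a (b i) = -b i := by
    intro a ha i
    have := hb₀' (T a) ⟨a, ha, rfl⟩ (e.symm i)
    simpa [b] using this
  obtain ⟨P, hP, hdg⟩ := exists_dg hQ b hb
  have hsub : A.map (Cfsg.Omega F ⇑Q).subtype ≤ hdg.psi.ker.map hdg.dl := by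
    rintro _ ⟨a, ha, rfl⟩
    classical
    let s : ι → ℤˣ := fun i => if T a (b i) = b i then 1 else -1
    have hs : ∀ i, T a (b i) = sgn F (s i) • b i := by
      intro i
      by_cases h : T a (b i) = b i
      · have h1 : s i = 1 := if_pos h
        rw [h1, sgn_one, one_smul, h]
      · have h1 : s i = -1 := if_neg h
        rw [h1, sgn_neg_one, neg_smul, one_smul]
        exact (hb' a ha i).resolve_left h
    have h3 : hdg.dl s = (a : Cfsg.isometryGroup F ⇑Q) := by
      apply isometryGroup_ext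
      intro x
      obtain ⟨y, rfl⟩ : ∃ y, x = (P : Matrix ι ι F) *ᵥ y := ⟨_, (inv_mulVec P x).symm⟩
      rw [hdg.dl_mulVec, hP, hP]
      change _ = T a (∑ i, y i • b i)
      rw [map_sum]
      refine Finset.sum_congr rfl fun i _ => ?_
      rw [map_smul, hs, smul_smul, mul_comm]
    refine ⟨s, ?_, h3⟩
    rw [SetLike.mem_coe, ← hdg.mem_omega_iff h2 hQ hn, h3]
    exact a.2
  calc Nat.card A = Nat.card (A.map (Cfsg.Omega F ⇑Q).subtype) :=
        (Subgroup.card_map_of_injective (Subgroup.subtype_injective _)).symm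
    _ ≤ Nat.card (hdg.psi.ker.map hdg.dl) := Nat.card_le_card_of_injective _ (Subgroup.inclusion_injective hsub)
    _ = Nat.card hdg.psi.ker := Subgroup.card_map_of_injective (hdg.dl_injective h2)
    _ ≤ 2 ^ k := hk P _ hdg

/-- **all values in one square class** -/
theorem Dg.rank_of_same (h : Dg Q P d) (h2 : (2 : F) ≠ 0) (hQ : (QuadraticMap.polarBilin Q).Nondegenerate)
    (hn : 2 ≤ Fintype.card ι) (hd : ∀ i j, IsSquare (d i) ↔ IsSquare (d j)) :
    Cfsg.PRankAtLeast 2 (Fintype.card ι - 1) ↥(Cfsg.Omega F ⇑Q) ∧ Cfsg.PRankLE 2 (Fintype.card ι - 1) ↥(Cfsg.Omega F ⇑Q) := by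
  refine ⟨h.atLeast h2 hQ hn (h.card_ker_same h2 hn hd).ge, rankLE h2 hQ hn fun P' d' h' => ?_⟩
  by_cases hd' : ∀ i j, IsSquare (d' i) ↔ IsSquare (d' j)
  · exact (h'.card_ker_same h2 hn hd').le
  · push Not at hd'
    obtain ⟨i, j, hij⟩ := hd'
    have h3 : ∃ i j, IsSquare (d' i) ∧ ¬ IsSquare (d' j) := by
      rcases hij with h4 | h4
      · exact ⟨i, j, h4⟩
      · exact ⟨j, i, h4.2, h4.1⟩
    obtain ⟨i, j, hi, hj⟩ := h3
    rw [h'.card_ker_diff h2 hi hj]
    exact Nat.pow_le_pow_right (by norm_num) (by omega)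

/-- **no orthogonal basis with all values in one square class** -/
theorem rank_of_not_same (h2 : (2 : F) ≠ 0) (hQ : (QuadraticMap.polarBilin Q).Nondegenerate)
    (hn : 2 ≤ Fintype.card ι) (hd : ∀ (P : GL ι F) (d : ι → F), Dg Q P d → ¬ ∀ i j, IsSquare (d i) ↔ IsSquare (d j)) :
    Cfsg.PRankAtLeast 2 (Fintype.card ι - 2) ↥(Cfsg.Omega F ⇑Q) ∧ Cfsg.PRankLE 2 (Fintype.card ι - 2) ↥(Cfsg.Omega F ⇑Q) := by
  have key : ∀ (P : GL ι F) (d : ι → F) (h : Dg Q P d), Nat.card h.psi.ker = 2 ^ (Fintype.card ι - 2) := by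
    intro P d h
    have h1 := hd P d h
    push Not at h1
    obtain ⟨i, j, hij⟩ := h1
    have h3 : ∃ i j, IsSquare (d i) ∧ ¬ IsSquare (d j) := by
      rcases hij with h4 | h4
      · exact ⟨i, j, h4⟩
      · exact ⟨j, i, h4.2, h4.1⟩
    obtain ⟨i, j, hi, hj⟩ := h3
    exact h.card_ker_diff h2 hi hj
  refine ⟨?_, rankLE h2 hQ hn fun P' d' h' => (key P' d' h').le⟩
  have : Invertible (2 : F) := invertibleOfNonzero h2
  have hsym : LinearMap.IsSymm (QuadraticMap.polarBilin Q) := ⟨fun x y => by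
    simpa using QuadraticMap.polar_comm _ x y⟩
  obtain ⟨v, hv⟩ := LinearMap.BilinForm.exists_orthogonal_basis (B := QuadraticMap.polarBilin Q) hsym
  let e : Fin (finrank F (ι → F)) ≃ ι := (Fintype.equivFinOfCardEq (by simp)).symm
  obtain ⟨P, hP, hdg⟩ := exists_dg hQ (v.reindex e) (by
    intro i j hij
    have := hv (fun h => hij (e.symm.injective h) : e.symm i ≠ e.symm j)
    simpa using this)
  exact hdg.atLeast h2 hQ hn (key P _ hdg).ge

/-- the Gram determinant of the standard basis and of a diagonalising basis -/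
theorem Dg.det_gram (h : Dg Q P d) : ∃ s : F, s ≠ 0 ∧
    ∏ i, (2 * d i) = s ^ 2 * (LinearMap.BilinForm.toMatrix (Pi.basisFun F ι) (QuadraticMap.polarBilin Q)).det := by
  have h1 : (P : Matrix ι ι F).transpose * LinearMap.BilinForm.toMatrix (Pi.basisFun F ι) (QuadraticMap.polarBilin Q) *
      (P : Matrix ι ι F) = Matrix.diagonal fun i => 2 * d i := by
    have h3 : LinearMap.BilinForm.toMatrix (Pi.basisFun F ι) (QuadraticMap.polarBilin Q) =
      LinearMap.BilinForm.toMatrix' (QuadraticMap.polarBilin Q) := by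
      rw [LinearMap.BilinForm.toMatrix_basisFun]
    ext i j
    have h4 : ((P : Matrix ι ι F).transpose * LinearMap.BilinForm.toMatrix (Pi.basisFun F ι) (QuadraticMap.polarBilin Q) *
        (P : Matrix ι ι F)) i j = QuadraticMap.polar ⇑Q ((P : Matrix ι ι F) *ᵥ Pi.single i 1)
          ((P : Matrix ι ι F) *ᵥ Pi.single j 1) := by
      have h5 := LinearMap.BilinForm.toMatrix'_comp (QuadraticMap.polarBilin Q) (Matrix.toLin' (P : Matrix ι ι F))
        (Matrix.toLin' (P : Matrix ι ι F))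
      rw [h3]
      rw [LinearMap.toMatrix'_toLin'] at h5
      rw [← h5, LinearMap.BilinForm.toMatrix'_apply]
      rfl
    rw [h4, h.polar]
    by_cases hij : i = j
    · subst hij
      simp
    · simp [hij]
  have h3 := congrArg Matrix.det h1
  rw [Matrix.det_mul, Matrix.det_mul, Matrix.det_transpose, Matrix.det_diagonal] at h3
  refine ⟨(P : Matrix ι ι F).det, ?_, ?_⟩
  · exact (Matrix.isUnit_iff_isUnit_det _).1 P.isUnit |>.ne_zero
  · rw [← h3]
    ring

/-! ### square classes -/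

theorem ringChar_ne (h2 : (2 : F) ≠ 0) : ringChar F ≠ 2 := by
  intro h
  apply h2
  have h1 := ringChar.spec F 2
  rw [h] at h1
  exact_mod_cast h1.2 dvd_rfl

/-- the product of two non-squares is a square -/
theorem isSquare_mul_of_same (h2 : (2 : F) ≠ 0) {a b : F} (ha : a ≠ 0) (hb : b ≠ 0) (h : IsSquare a ↔ IsSquare b) :
    IsSquare (a * b) := by
  classical
  let _ := Fintype.ofFinite F
  rw [← quadraticChar_one_iff_isSquare (mul_ne_zero ha hb), map_mul]
  have hF := ringChar_ne h2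
  by_cases hs : IsSquare a
  · rw [(quadraticChar_one_iff_isSquare ha).2 hs, (quadraticChar_one_iff_isSquare hb).2 (h.1 hs), mul_one]
  · have hs' : ¬ IsSquare b := fun h' => hs (h.2 h')
    have h1 : quadraticChar F a = -1 := (quadraticChar_neg_one_iff_not_isSquare).2 hs
    have h3 : quadraticChar F b = -1 := (quadraticChar_neg_one_iff_not_isSquare).2 hs'
    rw [h1, h3]
    norm_num

theorem not_isSquare_mul {a b : F} (ha : a ≠ 0) (h : IsSquare a) (h' : ¬ IsSquare b) :
    ¬ IsSquare (a * b) := by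
  intro h1
  apply h'
  have h3 : b = (a * b) / a := by
    field_simp
  rw [h3]
  exact h1.div h

/-- the discriminant is a square as soon as there is an orthogonal basis with all values in one class, `N` even -/
theorem Dg.isSquare_det (h : Dg Q P d) (h2 : (2 : F) ≠ 0) (hn : Even (Fintype.card ι))
    (hd : ∀ i j, IsSquare (d i) ↔ IsSquare (d j)) :
    IsSquare (LinearMap.BilinForm.toMatrix (Pi.basisFun F ι) (QuadraticMap.polarBilin Q)).det := by
  obtain ⟨s, hs, hprod⟩ := h.det_gram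
  by_cases hι : Nonempty ι
  · let i0 : ι := Classical.arbitrary ι
    have h1 : ∀ i, ∃ t, d i * d i0 = t * t := fun i => isSquare_mul_of_same h2 (h.ne i) (h.ne i0) (hd i i0)
    choose t ht using h1
    obtain ⟨m, hm⟩ := hn
    have h3 : ∏ i, (2 * d i) = ((2 * (d i0)⁻¹) ^ m * ∏ i, t i) ^ 2 := by
      have h4 : ∀ i, 2 * d i = (2 * (d i0)⁻¹) * (t i * t i) := by
        intro i
        rw [← ht i]
        have := h.ne i0
        field_simp
      rw [Finset.prod_congr rfl (fun i _ => h4 i), Finset.prod_mul_distrib, Finset.prod_const, Finset.card_univ, hm,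
        Finset.prod_mul_distrib]
      ring
    rw [h3] at hprod
    refine ⟨s⁻¹ * ((2 * (d i0)⁻¹) ^ m * ∏ i, t i), ?_⟩
    have h5 : (LinearMap.BilinForm.toMatrix (Pi.basisFun F ι) (QuadraticMap.polarBilin Q)).det =
        (s⁻¹) ^ 2 * ((2 * (d i0)⁻¹) ^ m * ∏ i, t i) ^ 2 := by
      rw [hprod]
      field_simp
    rw [h5]
    ring
  · rw [not_nonempty_iff] at hι
    rw [Matrix.det_isEmpty]
    exact IsSquare.one

theorem exists_dg_of_det (h2 : (2 : F) ≠ 0) (hQ : (QuadraticMap.polarBilin Q).Nondegenerate) {e s : F} (he : e ≠ 0)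
    (hdet : (LinearMap.BilinForm.toMatrix (Pi.basisFun F ι) (QuadraticMap.polarBilin Q)).det =
      s ^ 2 * (2 * e) ^ Fintype.card ι) : ∃ P : GL ι F, Dg Q P (fun _ => e) := by
  have hsym : LinearMap.BilinForm.IsSymm (QuadraticMap.polarBilin Q) := ⟨fun x y => by
    simpa using QuadraticMap.polar_comm _ x y⟩
  obtain ⟨v, hv⟩ := Cfsg.Agent.ClassicalGeometry.Discriminant.exists_basis_diag h2 (QuadraticMap.polarBilin Q)
    hsym hQ (ι := ι) (Pi.basisFun F ι) (fun _ => 2 * e) (by simp) (fun _ => mul_ne_zero h2 he) s (by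
      rw [hdet, Finset.prod_const, Finset.card_univ])
  obtain ⟨P, hP, hdg⟩ := exists_dg hQ v (by
    intro i j hij
    have := hv i j
    rwa [if_neg hij] at this)
  refine ⟨P, ?_⟩
  have h3 : (fun i => Q (v i)) = fun _ => e := by
    funext i
    have h4 := hv i i
    rw [if_pos rfl, QuadraticMap.polarBilin_apply_apply, QuadraticMap.polar_self, nsmul_eq_mul, Nat.cast_two] at h4
    exact mul_left_cancel₀ h2 h4
  rwa [h3] at hdg

/-- **The 2-rank of `Ω(Q)` in odd dimension is `N - 1`.** -/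
theorem rank_odd (h2 : (2 : F) ≠ 0) (hQ : (QuadraticMap.polarBilin Q).Nondegenerate) (hn : 2 ≤ Fintype.card ι)
    (hodd : Odd (Fintype.card ι)) :
    Cfsg.PRankAtLeast 2 (Fintype.card ι - 1) ↥(Cfsg.Omega F ⇑Q) ∧ Cfsg.PRankLE 2 (Fintype.card ι - 1) ↥(Cfsg.Omega F ⇑Q) := by
  obtain ⟨D, hD⟩ : ∃ D, D = (LinearMap.BilinForm.toMatrix (Pi.basisFun F ι) (QuadraticMap.polarBilin Q)).det := ⟨_, rfl⟩
  have hD0 : D ≠ 0 := by
    rw [hD]
    exact (LinearMap.BilinForm.nondegenerate_iff_det_ne_zero (Pi.basisFun F ι)).1 hQ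
  obtain ⟨m, hm⟩ := hodd
  obtain ⟨P, hP⟩ := exists_dg_of_det h2 hQ (e := 2 * D) (s := (2 ^ (2 * m + 1) * D ^ m)⁻¹) (mul_ne_zero h2 hD0) (by
    rw [← hD, hm]
    have h4 : (2 * (2 * D)) = 2 ^ 2 * D := by ring
    have h22 : (2 : F) ^ (2 * m + 1) ≠ 0 := pow_ne_zero _ h2
    have hDm : D ^ m ≠ 0 := pow_ne_zero _ hD0
    rw [h4, mul_pow, ← pow_mul, pow_succ D, mul_comm 2 m, pow_mul D, inv_pow, mul_pow]
    field_simp
    ring)
  exact hP.rank_of_same h2 hQ hn (fun i j => Iff.rfl)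

/-- **The 2-rank of `Ω(Q)` in even dimension, square discriminant, is `N - 1`.** -/
theorem rank_even_square (h2 : (2 : F) ≠ 0) (hQ : (QuadraticMap.polarBilin Q).Nondegenerate) (hn : 2 ≤ Fintype.card ι)
    (heven : Even (Fintype.card ι))
    (hD : IsSquare (LinearMap.BilinForm.toMatrix (Pi.basisFun F ι) (QuadraticMap.polarBilin Q)).det) :
    Cfsg.PRankAtLeast 2 (Fintype.card ι - 1) ↥(Cfsg.Omega F ⇑Q) ∧ Cfsg.PRankLE 2 (Fintype.card ι - 1) ↥(Cfsg.Omega F ⇑Q) := by
  obtain ⟨t, ht⟩ := hD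
  obtain ⟨m, hm⟩ := heven
  obtain ⟨P, hP⟩ := exists_dg_of_det h2 hQ (e := 1) (s := t * (2 ^ m)⁻¹) one_ne_zero (by
    rw [ht, hm]
    field_simp
    ring)
  exact hP.rank_of_same h2 hQ hn (fun i j => Iff.rfl)

/-- **The 2-rank of `Ω(Q)` in even dimension, non-square discriminant, is `N - 2`.** -/
theorem rank_even_nonsquare (h2 : (2 : F) ≠ 0) (hQ : (QuadraticMap.polarBilin Q).Nondegenerate)
    (hn : 2 ≤ Fintype.card ι) (heven : Even (Fintype.card ι))
    (hD : ¬ IsSquare (LinearMap.BilinForm.toMatrix (Pi.basisFun F ι) (QuadraticMap.polarBilin Q)).det) :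
    Cfsg.PRankAtLeast 2 (Fintype.card ι - 2) ↥(Cfsg.Omega F ⇑Q) ∧ Cfsg.PRankLE 2 (Fintype.card ι - 2) ↥(Cfsg.Omega F ⇑Q) :=
  rank_of_not_same h2 hQ hn fun _ _ h hd => hD (h.isSquare_det h2 heven hd)

end Finite

end Cfsg.Agent.H97.OmegaRank
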